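import Mathlib

/-!
# The Fourier matrix on the orbits of a fixed point free group of multipliers

For a group `S` of multipliers of `ZMod q` acting freely on the non-zero residues and
representatives `R` of the orbits, the determinant of `∑ i, η t i * conj (η t' i) * W i / q`,
where `η t i = ∑ a ∈ S, (ψ (a * t * i) - 1)`, is `q * ∏ W`.
-/

set_option autoImplicit false
set_option linter.unusedSectionVars false

namespace Cfsg.Agent.CharTheory.CyclicCofactor

open Matrix
open scoped ComplexConjugate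

variable {q : ℕ} [NeZero q]

/-- A group of multipliers acting freely on the non-zero residues. -/
structure IsFree (S : Finset (ZMod q)) : Prop where
  one_mem : (1 : ZMod q) ∈ S
  mul_mem : ∀ {a b}, a ∈ S → b ∈ S → a * b ∈ S
  exists_inv : ∀ {a}, a ∈ S → ∃ b ∈ S, b * a = 1
  free : ∀ {a i}, a ∈ S → i ≠ 0 → a * i = i → a = 1

variable {S : Finset (ZMod q)}

theorem IsFree.mul_eq_zero_iff (hS : IsFree S) {a i : ZMod q} (ha : a ∈ S) :
    a * i = 0 ↔ i = 0 := by
  refine ⟨fun h => ?_, fun h => by rw [h, mul_zero]⟩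
  obtain ⟨b, -, hb⟩ := hS.exists_inv ha
  rw [← one_mul i, ← hb, mul_assoc, h, mul_zero]

theorem IsFree.eq_of_mul_eq (hS : IsFree S) {a a' i : ZMod q} (ha : a ∈ S) (ha' : a' ∈ S)
    (hi : i ≠ 0) (h : a * i = a' * i) : a = a' := by
  obtain ⟨b, hb, hba⟩ := hS.exists_inv ha'
  have h1 := hS.free (hS.mul_mem hb ha) hi (by rw [mul_assoc, h, ← mul_assoc, hba, one_mul])
  calc a = (b * a') * a := by rw [hba, one_mul]
    _ = a' * (b * a) := by ring
    _ = a' := by rw [h1, mul_one]

/-- Representatives of the orbits. -/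
structure IsReps (S R : Finset (ZMod q)) : Prop where
  ne_zero : ∀ r ∈ R, r ≠ 0
  cover : ∀ i : ZMod q, i ≠ 0 → ∃ r ∈ R, ∃ a ∈ S, a * r = i
  sep : ∀ r ∈ R, ∀ r' ∈ R, ∀ a ∈ S, a * r = r' → r = r'

theorem exists_reps (hS : IsFree S) : ∃ R : Finset (ZMod q), IsReps S R := by
  classical
  let st : Setoid (ZMod q) := ⟨fun i j => ∃ a ∈ S, a * i = j, fun i => ⟨1, hS.one_mem, one_mul i⟩,
    fun {i j} h => by
      obtain ⟨a, ha, rfl⟩ := h
      obtain ⟨b, hb, hba⟩ := hS.exists_inv ha
      exact ⟨b, hb, by rw [← mul_assoc, hba, one_mul]⟩,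
    fun {i j k} h h' => by
      obtain ⟨a, ha, rfl⟩ := h
      obtain ⟨b, hb, rfl⟩ := h'
      exact ⟨b * a, hS.mul_mem hb ha, mul_assoc b a i⟩⟩
  let rep : ZMod q → ZMod q := fun i => (Quotient.mk st i).out
  have hrep : ∀ i, ∃ a ∈ S, a * rep i = i := fun i =>
    Quotient.exact (Quotient.out_eq (Quotient.mk st i))
  have hrep' : ∀ i j, (∃ a ∈ S, a * i = j) → rep i = rep j := fun i j h => by
    show (Quotient.mk st i).out = (Quotient.mk st j).out
    rw [Quotient.sound (a := i) (b := j) h]
  refine ⟨(Finset.univ.filter (· ≠ 0)).image rep, ?_, ?_, ?_⟩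
  · intro r hr
    obtain ⟨i, hi, rfl⟩ := Finset.mem_image.1 hr
    obtain ⟨a, ha, hai⟩ := hrep i
    intro h
    rw [h, mul_zero] at hai
    exact (Finset.mem_filter.1 hi).2 hai.symm
  · intro i hi
    exact ⟨rep i, Finset.mem_image_of_mem _ (Finset.mem_filter.2 ⟨Finset.mem_univ _, hi⟩), hrep i⟩
  · intro r hr r' hr' a ha h
    obtain ⟨i, -, rfl⟩ := Finset.mem_image.1 hr
    obtain ⟨i', -, rfl⟩ := Finset.mem_image.1 hr'
    have h1 : rep (rep i) = rep i := hrep' _ _ (hrep i)
    have h2 : rep (rep i') = rep i' := hrep' _ _ (hrep i')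
    rw [← h1, ← h2]
    exact hrep' _ _ ⟨a, ha, h⟩

/-- A sum over the non-zero residues, orbit by orbit. -/
theorem sum_orbits {R : Finset (ZMod q)} (hS : IsFree S) (hR : IsReps S R) {β : Type*}
    [AddCommMonoid β] (F : ZMod q → β) :
    ∑ r ∈ R, ∑ a ∈ S, F (a * r) = ∑ i ∈ Finset.univ.filter (· ≠ 0), F i := by
  rw [← Finset.sum_product']
  refine Finset.sum_bij (fun x _ => x.2 * x.1) ?_ ?_ ?_ (fun _ _ => rfl)
  · intro x hx
    obtain ⟨hx1, hx2⟩ := Finset.mem_product.1 hx
    exact Finset.mem_filter.2 ⟨Finset.mem_univ _,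
      fun h => hR.ne_zero _ hx1 ((hS.mul_eq_zero_iff hx2).1 h)⟩
  · intro x hx y hy h
    obtain ⟨hx1, hx2⟩ := Finset.mem_product.1 hx
    obtain ⟨hy1, hy2⟩ := Finset.mem_product.1 hy
    obtain ⟨b, hb, hby⟩ := hS.exists_inv hy2
    have h1 : x.1 = y.1 := hR.sep _ hx1 _ hy1 (b * x.2) (hS.mul_mem hb hx2)
      (by rw [mul_assoc, h, ← mul_assoc, hby, one_mul])
    exact Prod.ext h1 (hS.eq_of_mul_eq hx2 hy2 (hR.ne_zero _ hx1) (by rw [h, h1]))
  · intro i hi
    obtain ⟨r, hr, a, ha, h⟩ := hR.cover i (Finset.mem_filter.1 hi).2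
    exact ⟨(r, a), Finset.mem_product.2 ⟨hr, ha⟩, h⟩

theorem card_reps {R : Finset (ZMod q)} (hS : IsFree S) (hR : IsReps S R) :
    R.card * S.card + 1 = q := by
  classical
  have h := sum_orbits hS hR (fun _ => (1 : ℕ))
  simp only [Finset.sum_const, smul_eq_mul, mul_one] at h
  rw [h, Finset.filter_ne', Finset.card_erase_of_mem (Finset.mem_univ _), Finset.card_univ,
    ZMod.card]
  have := NeZero.ne q
  omega

/-- The value of the orbit sum attached to `t` at `i`. -/
noncomputable def eta (S : Finset (ZMod q)) (t i : ZMod q) : ℂ :=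
  ∑ a ∈ S, (ZMod.stdAddChar (a * t * i) - 1)

theorem eta_zero (t : ZMod q) : eta S t 0 = 0 := by simp [eta]

theorem eta_mul (hS : IsFree S) {b : ZMod q} (hb : b ∈ S) (t i : ZMod q) :
    eta S t (b * i) = eta S t i := by
  obtain ⟨c, hc, hcb⟩ := hS.exists_inv hb
  refine Finset.sum_bij' (fun a _ => a * b) (fun a _ => a * c) (fun a ha => hS.mul_mem ha hb)
    (fun a ha => hS.mul_mem ha hc) (fun a _ => by rw [mul_assoc, mul_comm b c, hcb, mul_one])
    (fun a _ => by rw [mul_assoc, hcb, mul_one]) (fun a _ => ?_)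
  rw [show a * t * (b * i) = a * b * t * i by ring]

theorem gram {R : Finset (ZMod q)} (hS : IsFree S) (hR : IsReps S R) {t t' : ZMod q}
    (ht : t ∈ R) (ht' : t' ∈ R) :
    ∑ i ∈ R, conj (eta S t i) * eta S t' i =
      (q : ℂ) * ((if t = t' then 1 else 0) + (S.card : ℂ)) := by
  classical
  have he : (S.card : ℂ) ≠ 0 := Nat.cast_ne_zero.2 (Finset.card_ne_zero.2 ⟨1, hS.one_mem⟩)
  apply mul_left_cancel₀ he
  set ψ : AddChar (ZMod q) ℂ := ZMod.stdAddChar
  have h1 : (S.card : ℂ) * ∑ i ∈ R, conj (eta S t i) * eta S t' i =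
      ∑ i : ZMod q, conj (eta S t i) * eta S t' i := by
    rw [← Finset.sum_subset (Finset.subset_univ (Finset.univ.filter (· ≠ (0 : ZMod q))))
      fun i _ hi => by
        obtain rfl : i = 0 := by simpa using hi
        rw [eta_zero t', mul_zero],
      ← sum_orbits hS hR, Finset.mul_sum]
    refine Finset.sum_congr rfl fun i _ => ?_
    rw [Finset.sum_congr rfl fun a ha => by rw [eta_mul hS ha, eta_mul hS ha], Finset.sum_const,
      nsmul_eq_mul]
  have h2 : ∀ a ∈ S, ∀ a' ∈ S,
      ∑ i : ZMod q, (conj (ψ (a * t * i)) - 1) * (ψ (a' * t' * i) - 1) =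
        (if a * t = a' * t' then (q : ℂ) else 0) + q := by
    intro a ha a' ha'
    have hneg : ∀ x, conj (ψ x) = ψ (-x) := fun x => (AddChar.map_neg_eq_conj ψ x).symm
    have hshift : ∀ c : ZMod q, ∑ i : ZMod q, ψ (i * c) = if c = 0 then (q : ℂ) else 0 := by
      intro c
      rw [AddChar.sum_mulShift c (ZMod.isPrimitive_stdAddChar q), ZMod.card]
      split <;> simp
    calc _ = ∑ i : ZMod q, (ψ (i * (a' * t' - a * t)) - ψ (i * -(a * t)) - ψ (i * (a' * t')) + 1) := by
          refine Finset.sum_congr rfl fun i _ => ?_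
          rw [hneg, show i * (a' * t' - a * t) = -(a * t * i) + a' * t' * i by ring,
            show i * -(a * t) = -(a * t * i) by ring, show i * (a' * t') = a' * t' * i by ring,
            AddChar.map_add_eq_mul]
          ring
      _ = _ := by
          rw [Finset.sum_add_distrib, Finset.sum_sub_distrib, Finset.sum_sub_distrib, hshift,
            hshift, hshift, Finset.sum_const, Finset.card_univ, ZMod.card,
            if_neg (neg_ne_zero.2 fun h => hR.ne_zero _ ht ((hS.mul_eq_zero_iff ha).1 h)),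
            if_neg fun h => hR.ne_zero _ ht' ((hS.mul_eq_zero_iff ha').1 h)]
          simp only [sub_eq_zero, eq_comm (a := a' * t'), nsmul_eq_mul, mul_one, sub_zero]
  rw [h1]
  simp only [eta, map_sum, map_sub, map_one, Finset.sum_mul, Finset.mul_sum]
  rw [Finset.sum_comm, Finset.sum_congr rfl fun a' ha' => by
    rw [Finset.sum_comm, Finset.sum_congr rfl fun a ha => h2 a ha a' ha']]
  simp only [Finset.sum_add_distrib, Finset.sum_const, nsmul_eq_mul]
  by_cases htt : t = t'
  · subst htt
    rw [if_pos rfl, Finset.sum_congr rfl fun a' ha' => by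
      rw [Finset.sum_eq_single a' (fun a ha hne => if_neg fun h =>
        hne (hS.eq_of_mul_eq ha ha' (hR.ne_zero _ ht) h)) (fun h => absurd ha' h), if_pos rfl],
      Finset.sum_const, nsmul_eq_mul]
    ring
  · rw [if_neg htt, Finset.sum_congr rfl fun a' ha' => Finset.sum_eq_zero fun a ha => if_neg fun h =>
      htt (hR.sep _ ht _ ht' ((hS.exists_inv ha').choose * a)
        (hS.mul_mem (hS.exists_inv ha').choose_spec.1 ha)
        (by rw [mul_assoc, h, ← mul_assoc, (hS.exists_inv ha').choose_spec.2, one_mul]))]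
    rw [Finset.sum_const_zero]
    ring

/-- The weighted Gram determinant. -/
theorem det_gram {R : Finset (ZMod q)} (hS : IsFree S) (hR : IsReps S R) (W : ZMod q → ℂ) :
    (Matrix.of fun t t' : R => ∑ i ∈ R, eta S t i * conj (eta S t' i) * (W i / q)).det =
      (q : ℂ) * ∏ i ∈ R, W i := by
  classical
  set A : Matrix R R ℂ := Matrix.of fun i t => eta S t i with hA
  have hG : (Matrix.of fun t t' : R => ∑ i ∈ R, eta S t i * conj (eta S t' i) * (W i / q)) =
      Aᵀ * diagonal (fun i : R => W i / q) * A.map conj := by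
    ext t t'
    rw [Matrix.mul_apply, Matrix.of_apply, ← Finset.sum_coe_sort]
    refine Finset.sum_congr rfl fun i _ => ?_
    rw [mul_diagonal]
    simp [A]
    ring
  have hH : (A.map conj)ᵀ * A =
      (q : ℂ) • (1 + replicateCol Unit (fun _ : R => (S.card : ℂ)) * replicateRow Unit fun _ : R => (1 : ℂ)) := by
    ext t t'
    rw [Matrix.mul_apply, Matrix.smul_apply, smul_eq_mul, Matrix.add_apply, Matrix.mul_apply,
      Matrix.one_apply]
    simp only [replicateCol_apply, replicateRow_apply, mul_one, Finset.sum_const, Finset.card_univ,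
      Fintype.card_unit, one_smul]
    simp only [A, Matrix.transpose_apply, Matrix.map_apply, Matrix.of_apply]
    rw [Finset.sum_coe_sort R fun i => conj (eta S t i) * eta S t' i, gram hS hR t.2 t'.2]
    congr 2
    exact if_congr Subtype.ext_iff.symm rfl rfl
  have hdetH : ((A.map conj)ᵀ).det * A.det = (q : ℂ) ^ R.card * q := by
    rw [← det_mul, hH, det_smul, det_one_add_replicateCol_mul_replicateRow, Fintype.card_coe]
    congr 1
    simp only [dotProduct, one_mul, Finset.sum_const, Finset.card_univ, Fintype.card_coe,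
      nsmul_eq_mul]
    have := card_reps hS hR
    conv_rhs => rw [← this]
    push_cast
    ring
  rw [hG, det_mul, det_mul, det_transpose, det_diagonal, Finset.prod_coe_sort R fun i => W i / q,
    mul_comm A.det, mul_assoc, mul_comm A.det, ← det_transpose (A.map conj), hdetH,
    Finset.prod_div_distrib, Finset.prod_const]
  have hq : (q : ℂ) ≠ 0 := Nat.cast_ne_zero.2 (NeZero.ne q)
  field_simp

end Cfsg.Agent.CharTheory.CyclicCofactor
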