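import Mathlib
import Cfsg.Agent.Lib.Blocks.OrbitCount
import Cfsg.Agent.Lib.Blocks.Star.PairCount
import Cfsg.Agent.Lib.Blocks.Star.Major
import Cfsg.Agent.Lib.Blocks.Star.InB

/-!
# Fusion of the pairs below a maximal pair with abelian top

Fusion is controlled by the inertial group, so stable functions are those invariant under it.
-/

set_option linter.style.haveILetI false
set_option linter.unusedSectionVars false

namespace Cfsg.Agent.CharTheory.CyclicCofactor

open Cfsg.Agent.Blocks Cfsg.Agent.Characters Cfsg.Agent.BlockCharsA Cfsg.Agent.Blocks.Star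
open Cfsg.Agent.BlockCharsA.BrauerPairs Cfsg.Agent.BlockCharsA.PairStab
open Cfsg.Agent.BlockCharsA.PairMax Cfsg.Agent.BlockCharsA.PairConj
open Cfsg.Agent.BlockCharsA.PairLocal Cfsg.Agent.BlockCharsA.PairFusion
open Cfsg.Agent.BlockCharsA.PairCorr Cfsg.Agent.BlockCharsA.PairReceptive
open MonoidAlgebra
open scoped ComplexConjugate

universe u

variable {G : Type u} [Group G] [Finite G] {p : ℕ} {M : Ideal Cfsg.AlgInt}
  {B : Set (Cfsg.IrrCharacter G)} {P : Subgroup G}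
  {e : Set (Cfsg.IrrCharacter (Subgroup.centralizer (P : Set G)))}

/-- Conjugation of a named pair to a named pair is done by the inertial group. -/
theorem exists_stab_conj (hM : Cfsg.IsPModular p M) (hmax : Cfsg.IsMaximalBrauerPair p M B P e)
    (hab : ∀ a ∈ P, ∀ b ∈ P, a * b = b * a) {u v : P} {x : G}
    (hv : (v : G) = x * (u : G) * x⁻¹) (hε : cjE x (eps p M e u) = eps p M e v) :
    ∃ w ∈ stab P e, w * (u : G) * w⁻¹ = (v : G) := by
  haveI := fact_prime_of_pm hM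
  obtain ⟨gu, hgu, -, heu⟩ := eps_spec hM hmax u
  obtain ⟨gv, hgv, -, hev⟩ := eps_spec hM hmax v
  have hpair : cjPair x (⟨Subgroup.zpowers (u : G), gu⟩ : Cfsg.BrauerPairIdx G) =
      ⟨Subgroup.zpowers (v : G), gv⟩ := by
    refine idx_ext ((OrbitCount.cj_zpowers _ x).trans (congrArg Subgroup.zpowers hv.symm)) fun z => ?_
    simp only [cjPair]
    rw [coeff_conjBlock', ← coeff_cjE, ← heu, hε, hev]
  have hcj : cj (Subgroup.zpowers (u : G)) x = Subgroup.zpowers (v : G) := congrArg Sigma.fst hpair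
  have hle2 : Relation.ReflTransGen (Cfsg.NormalSubpairRel p M)
      (cjPair x (⟨_, gu⟩ : Cfsg.BrauerPairIdx G)) ⟨P, e⟩ := by
    rw [hpair]; exact hgv
  have hφ : Cfsg.conjHom (Subgroup.zpowers (u : G)) x ∈
      (blockSystem hM hmax).Hom (Subgroup.zpowers (u : G)) :=
    ⟨Subgroup.zpowers_le.2 u.2, x, fun _ => rfl, by
      show cj (Subgroup.zpowers (u : G)) x ≤ P
      rw [hcj]; exact Subgroup.zpowers_le.2 v.2, gu, hgu, hle2⟩
  have hS := isBlockFusion_blockSystem hM hmax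
  obtain ⟨α, hα, he⟩ :=
    Fusion.Abelian.exists_aut hmax.1.1.1 (isSaturated hM hS) hab (Fusion.Basic.IsMap.of_hom hφ)
  obtain ⟨w, rfl⟩ := (autGroup_eq hM hS (Q := P) (f := e) Relation.ReflTransGen.refl) ▸ hα
  refine ⟨w, w.2, ?_⟩
  have h2 := he u (Subgroup.mem_zpowers _)
  rw [Fusion.Basic.autFun_of_mem _ u.2, coe_autHom,
    show (u : G) = ((⟨u, Subgroup.mem_zpowers _⟩ : Subgroup.zpowers (u : G)) : G) from rfl,
    Fusion.Basic.ext_apply] at h2
  exact h2.trans hv.symm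

/-- Functions invariant under the inertial group are stable. -/
theorem stable_of_invariant (hM : Cfsg.IsPModular p M) (hmax : Cfsg.IsMaximalBrauerPair p M B P e)
    (hab : ∀ a ∈ P, ∀ b ∈ P, a * b = b * a) {η : P → ℂ}
    (h : ∀ u v : P, ∀ w ∈ stab P e, w * (u : G) * w⁻¹ = (v : G) → η u = η v) : Stable p M e η := by
  intro u v x hv hε
  obtain ⟨w, hw, hwe⟩ := exists_stab_conj hM hmax hab hv hε
  exact h u v w hw hwe

/-- The inertial group permutes the named pairs. -/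
theorem cjE_eps (hM : Cfsg.IsPModular p M) (hmax : Cfsg.IsMaximalBrauerPair p M B P e) {u v : P}
    {w : G} (hw : w ∈ stab P e) (hv : w * (u : G) * w⁻¹ = (v : G)) :
    cjE w (eps p M e u) = eps p M e v := by
  obtain ⟨g, hg, hgB, he⟩ := eps_spec hM hmax u
  obtain ⟨g', -, he', hpair⟩ := exists_cj_pair hM
    (show cj (Subgroup.zpowers (u : G)) w = Subgroup.zpowers (v : G) by
      rw [OrbitCount.cj_zpowers, hv]) hgB
  have h1 : Relation.ReflTransGen (Cfsg.NormalSubpairRel p M)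
      (cjPair w ⟨Subgroup.zpowers (u : G), g⟩) (cjPair w ⟨P, e⟩) := subpairLE_conj hM w hg
  rw [hpair, mem_stab_iff.1 hw] at h1
  rw [he, ← he', eps_eq hM hmax v (g := g') h1]

theorem pairing_eq (hM : Cfsg.IsPModular p M) (hmax : Cfsg.IsMaximalBrauerPair p M B P e) {u v : P}
    {w : G} (hw : w ∈ stab P e) (hv : w * (u : G) * w⁻¹ = (v : G)) {f f' : G → ℂ}
    (hf : Cfsg.IsClassFunction G f) (hf' : Cfsg.IsClassFunction G f') :
    pairing p f f' (v : G) (eps p M e v) = pairing p f f' (u : G) (eps p M e u) := by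
  haveI := Fintype.ofFinite G
  rw [← cjE_eps hM hmax hw hv, ← hv, pairing_conj hf hf']

/-- The number of ways of carrying the pair at `u` to named pairs. -/
theorem nb_eq (hM : Cfsg.IsPModular p M) (hmax : Cfsg.IsMaximalBrauerPair p M B P e)
    (hab : ∀ a ∈ P, ∀ b ∈ P, a * b = b * a) (u : P) :
    nb p M e u = Nat.card {v : P // ∃ w ∈ stab P e, w * (u : G) * w⁻¹ = (v : G)} *
      Nat.card (CU (u : G)) := by
  classical
  set O := {v : P // ∃ w ∈ stab P e, w * (u : G) * w⁻¹ = (v : G)}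
  have hch : ∀ v : O, ∃ w ∈ stab P e, w * (u : G) * w⁻¹ = ((v : P) : G) := fun v => v.2
  choose W hW hWe using hch
  have hfix : ∀ c ∈ CU (u : G), cjE c (eps p M e u) = eps p M e u := fun c hc =>
    cjE_eq_self (invBy_BI (eps_mem_BI hM hmax u)) hc
  have hcu : ∀ c ∈ CU (u : G), c * (u : G) * c⁻¹ = (u : G) := fun c hc => by
    rw [← (commute_of_mem_CU hc).eq, mul_inv_cancel_right]
  rw [← Nat.card_prod, nb]
  refine (Nat.card_eq_of_bijective (fun a : O × CU (u : G) =>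
    (⟨W a.1 * (a.2 : G), (a.1 : P), ?_, ?_⟩ :
      {y : G // ∃ w : P, (w : G) = y * (u : G) * y⁻¹ ∧ cjE y (eps p M e u) = eps p M e w})) ⟨?_, ?_⟩).symm
  · rw [show W a.1 * (a.2 : G) * (u : G) * (W a.1 * (a.2 : G))⁻¹ =
      W a.1 * ((a.2 : G) * (u : G) * (a.2 : G)⁻¹) * (W a.1)⁻¹ by group, hcu _ a.2.2, hWe]
  · rw [← cjE_cjE, hfix _ a.2.2, cjE_eps hM hmax (hW a.1) (hWe a.1)]
  · rintro ⟨v, c⟩ ⟨v', c'⟩ h
    have h' : W v * (c : G) = W v' * (c' : G) := congrArg Subtype.val h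
    have hvv : v = v' := by
      apply Subtype.ext; apply Subtype.ext
      rw [← hWe v, ← hWe v', show W v' = W v * (c : G) * (c' : G)⁻¹ by rw [h', mul_inv_cancel_right],
        show W v * (c : G) * (c' : G)⁻¹ * (u : G) * (W v * (c : G) * (c' : G)⁻¹)⁻¹ =
          W v * ((c * c'⁻¹ : CU (u : G)) * (u : G) * ((c * c'⁻¹ : CU (u : G)) : G)⁻¹) * (W v)⁻¹ by
            rw [Subgroup.coe_mul, Subgroup.coe_inv]; group, hcu _ (c * c'⁻¹).2]
    subst hvv
    exact Prod.ext rfl (Subtype.ext (mul_left_cancel h'))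
  · rintro ⟨y, v, hv, hε⟩
    obtain ⟨w, hw, hwe⟩ := exists_stab_conj hM hmax hab hv hε
    set o : O := ⟨v, w, hw, hwe⟩
    refine ⟨(o, ⟨(W o)⁻¹ * y, mem_CU_of_commute ?_⟩), Subtype.ext (mul_inv_cancel_left _ _)⟩
    have h2 : W o * (u : G) * (W o)⁻¹ = y * (u : G) * y⁻¹ := (hWe o).trans hv
    show (u : G) * ((W o)⁻¹ * y) = (W o)⁻¹ * y * u
    calc (u : G) * ((W o)⁻¹ * y) = (W o)⁻¹ * (W o * (u : G) * (W o)⁻¹) * y := by group
      _ = _ := by rw [h2]; group

end Cfsg.Agent.CharTheory.CyclicCofactor
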