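import Mathlib
import Cfsg.Agent.Lib.CharTheory.CyclicCofactor.Fusion

/-!
# Expansions of twisted characters
-/

set_option linter.style.haveILetI false
set_option linter.unusedSectionVars false

namespace Cfsg.Agent.CharTheory.CyclicCofactor

open Cfsg.Agent.Blocks Cfsg.Agent.Characters Cfsg.Agent.BlockCharsA Cfsg.Agent.Blocks.Star
open Cfsg.Agent.BlockCharsA.BrauerPairs Cfsg.Agent.BlockCharsA.PairLocal
open MonoidAlgebra
open scoped ComplexConjugate

universe u

variable {G : Type u} [Group G] [Finite G] [Fintype G] {p : ℕ} {M : Ideal Cfsg.AlgInt}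
  {B : Set (Cfsg.IrrCharacter G)} {P : Subgroup G}
  {e : Set (Cfsg.IrrCharacter (Subgroup.centralizer (P : Set G)))}

theorem star_sum_smul (hM : Cfsg.IsPModular p M) (W : G → MonoidAlgebra ℂ G) {ι : Type*}
    (s : Finset ι) (a : ι → ℂ) (F : ι → G → ℂ) :
    star hM W (fun c => ∑ i ∈ s, a i * F i c) = fun c => ∑ i ∈ s, a i * star hM W (F i) c := by
  funext g
  simp only [Blocks.Star.star, evalChar_eq_sum, Finset.mul_sum, Finset.sum_mul]
  rw [Finset.sum_comm]
  exact Finset.sum_congr rfl fun i _ => Finset.sum_congr rfl fun c _ => by ring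

/-- The constant weight kills the characters outside the block. -/
theorem star_one_notMem (hM : Cfsg.IsPModular p M) (hmax : Cfsg.IsMaximalBrauerPair p M B P e)
    {θ : Cfsg.IrrCharacter G} (hθ : θ ∉ B) (g : G) :
    star hM (wt p M e fun _ => (1 : ℂ)) (θ : G → ℂ) g = 0 := by
  obtain ⟨s, hg, hc, hk, hs⟩ := isPPart_ppt hM g
  have hsr : s ∈ regAt p (ppt hM g) := mem_regAt.2 ⟨hc, hs⟩
  rw [← hg, star_mul_wt hM _ _ hk hsr]
  refine Finset.sum_eq_zero fun ε hε => ?_
  obtain ⟨f, hf, rfl⟩ := mem_BI.1 hε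
  by_cases h : Cfsg.IsBrauerPairOf p M B (Subgroup.zpowers (ppt hM g)) f
  · obtain ⟨B', hB', hθ'⟩ : ∃ B', Cfsg.IsPBlock M B' ∧ θ ∈ B' :=
      ⟨Cfsg.blockOf M (θ : G → ℂ), isPBlock_blockOf M θ, mem_blockOf_self hM θ⟩
    rw [th_eq_zero hM hB' hθ' hk hf (fun h' => hθ (brauerPairOf_unique hM h h' ▸ hθ')) hsr,
      mul_zero]
  · rw [hat_of_not fun hw => h ((witness_iff hM hmax hk hf).1 hw), zero_mul]

/-- A twist of a character of the block has no constituent outside it. -/
theorem classInner_star_notMem (hM : Cfsg.IsPModular p M)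
    (hmax : Cfsg.IsMaximalBrauerPair p M B P e) {η : P → ℂ}
    (hW : WeightSys p M (wt p M e η)) {χ θ : Cfsg.IrrCharacter G} (hθ : θ ∉ B) :
    Cfsg.classInner (star hM (wt p M e η) (χ : G → ℂ)) (θ : G → ℂ) = 0 := by
  classical
  haveI := Fintype.ofFinite (Cfsg.IrrCharacter G)
  set f := star hM (wt p M e η) (χ : G → ℂ)
  have hf : Cfsg.IsClassFunction G f := isClassFunction_star hM hW (irr_isClassFunction χ)
  set F : G → ℂ := ∑ ψ : Cfsg.IrrCharacter G,
    (if ψ ∈ B then Cfsg.classInner f (ψ : G → ℂ) else 0) • (ψ : G → ℂ) with hFdef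
  have hfF : f = F := by
    have h1 : star hM (wt p M e fun _ => (1 : ℂ)) f = f := by
      rw [star_star hM _ _ (irr_isClassFunction χ) hf]
      congr 2
      funext v; simp
    have hexp : f = fun c => ∑ ψ : Cfsg.IrrCharacter G,
        Cfsg.classInner f (ψ : G → ℂ) * (ψ : G → ℂ) c := by
      conv_lhs => rw [classFun_eq_sum hf]
      funext c
      simp [Finset.sum_apply]
    calc f = star hM (wt p M e fun _ => (1 : ℂ)) f := h1.symm
      _ = fun c => ∑ ψ : Cfsg.IrrCharacter G, Cfsg.classInner f (ψ : G → ℂ) *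
            star hM (wt p M e fun _ => (1 : ℂ)) (ψ : G → ℂ) c := by
          conv_lhs => rw [hexp]
          rw [star_sum_smul]
      _ = F := by
          funext c
          rw [hFdef, Finset.sum_apply]
          refine Finset.sum_congr rfl fun ψ _ => ?_
          rw [Pi.smul_apply, smul_eq_mul]
          by_cases hψ : ψ ∈ B
          · rw [star_one hM hmax hψ, if_pos hψ]
          · rw [star_one_notMem hM hmax hψ, if_neg hψ, mul_zero, zero_mul]
  rw [hfF, hFdef, classInner_sum_left, Finset.sum_eq_zero]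
  intro ψ _
  rw [classInner_smul_left, classInner_irr]
  rcases eq_or_ne ψ θ with rfl | hne
  · rw [if_neg hθ, zero_mul]
  · rw [if_neg hne, mul_zero]

/-- The inner product of two functions with integral coefficients in the block. -/
theorem classInner_eq_sum {f : G → ℂ} (hf : Cfsg.IsClassFunction G f) [Fintype (Cfsg.IrrCharacter G)]
    (bs : Finset (Cfsg.IrrCharacter G)) (v v' : Cfsg.IrrCharacter G → ℤ)
    (hv : ∀ θ ∈ bs, Cfsg.classInner f (θ : G → ℂ) = v θ)
    (h0 : ∀ θ, θ ∉ bs → Cfsg.classInner f (θ : G → ℂ) = 0) {f' : G → ℂ}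
    (hv' : ∀ θ ∈ bs, Cfsg.classInner f' (θ : G → ℂ) = v' θ) :
    Cfsg.classInner f f' = ∑ θ ∈ bs, (v θ : ℂ) * (v' θ : ℂ) := by
  rw [classFun_eq_sum hf, classInner_sum_left,
    ← Finset.sum_subset (Finset.subset_univ bs) fun θ _ hθ => by
      rw [h0 θ hθ, classInner_smul_left, zero_mul]]
  refine Finset.sum_congr rfl fun θ hθ => ?_
  rw [classInner_smul_left, hv θ hθ, classInner_conj_symm f' (θ : G → ℂ), hv' θ hθ, map_intCast]

end Cfsg.Agent.CharTheory.CyclicCofactor
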