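import Mathlib
import Cfsg.Agent.Lib.Blocks.Star.Gen
import Cfsg.Agent.Lib.Blocks.QuotientDefect

/-!
# Regular parts and quotients by central `p`-subgroups
-/

set_option linter.style.haveILetI false
set_option linter.unusedSectionVars false

namespace Cfsg.Agent.CharTheory.CyclicCofactor

open Cfsg.Agent.Blocks Cfsg.Agent.Characters
open scoped ComplexConjugate

universe u

variable {K : Type u} [Group K] [Finite K] {p : ℕ}

/-- An exponent giving the regular part in every group of order dividing `|K|`. -/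
theorem exists_regular_exp (hp : p.Prime) : ∃ m : ℕ,
    (∀ n : ℕ, n ∣ Nat.card K → ¬ p ∣ n → m ≡ 1 [MOD n]) ∧
    (∀ i : ℕ, p ^ i ∣ Nat.card K → p ^ i ∣ m) := by
  have hK : Nat.card K ≠ 0 := Nat.card_pos.ne'
  set a := (Nat.card K).factorization p
  set b := Nat.card K / p ^ a
  have hco : (p ^ a).Coprime b :=
    ((Nat.coprime_ordCompl hp hK).pow_left a)
  obtain ⟨m, h0, h1⟩ := Nat.chineseRemainder hco 0 1
  refine ⟨m, fun n hn hpn => h1.of_dvd ?_, fun i hi => ?_⟩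
  · have : n.Coprime (p ^ a) := ((hp.coprime_iff_not_dvd.2 hpn).symm).pow_right a
    refine this.dvd_of_dvd_mul_left ?_
    rwa [Nat.ordProj_mul_ordCompl_eq_self]
  · refine (Nat.pow_dvd_pow p ?_).trans (Nat.modEq_zero_iff_dvd.1 h0)
    exact (hp.pow_dvd_iff_le_factorization hK).1 hi

theorem pow_regular {L : Type*} [Group L] [Finite L] {m : ℕ}
    (hm : ∀ n : ℕ, n ∣ Nat.card K → ¬ p ∣ n → m ≡ 1 [MOD n]) (hL : Nat.card L ∣ Nat.card K)
    {x : L} (hx : ¬ p ∣ orderOf x) : x ^ m = x := by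
  conv_rhs => rw [← pow_one x]
  exact pow_eq_pow_iff_modEq.2 (hm _ ((orderOf_dvd_natCard x).trans hL) hx)

theorem pow_pElement {L : Type*} [Group L] [Finite L] {m : ℕ}
    (hm : ∀ i : ℕ, p ^ i ∣ Nat.card K → p ^ i ∣ m) (hL : Nat.card L ∣ Nat.card K) {x : L} {i : ℕ}
    (hx : orderOf x = p ^ i) : x ^ m = 1 :=
  orderOf_dvd_iff_pow_eq_one.1 (hx ▸ hm i (hx ▸ (orderOf_dvd_natCard x).trans hL))

theorem pow_is_regular (hp : p.Prime) {m : ℕ} (hm : ∀ i : ℕ, p ^ i ∣ Nat.card K → p ^ i ∣ m)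
    (x : K) : ¬ p ∣ orderOf (x ^ m) := by
  obtain ⟨i, n, hn, he⟩ := Nat.exists_eq_pow_mul_and_not_dvd (orderOf_pos x).ne' p hp.ne_one
  obtain ⟨c, hc⟩ := hm i ((Dvd.intro n he.symm).trans (orderOf_dvd_natCard x))
  intro h
  refine hn (h.trans (orderOf_dvd_iff_pow_eq_one.2 ?_))
  rw [← pow_mul, ← orderOf_dvd_iff_pow_eq_one, he, hc]
  exact ⟨c, by ring⟩

/-- Composing a generalized character with the regular part gives a generalized character. -/
theorem isGen_pow [Fact p.Prime] {m : ℕ}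
    (hm₁ : ∀ n : ℕ, n ∣ Nat.card K → ¬ p ∣ n → m ≡ 1 [MOD n])
    (hm₂ : ∀ i : ℕ, p ^ i ∣ Nat.card K → p ^ i ∣ m) {η : K → ℂ}
    (hη : Cfsg.IsGeneralizedCharacter K η) :
    Cfsg.IsGeneralizedCharacter K fun x => η (x ^ m) := by
  haveI := Fintype.ofFinite K
  refine BrauerInduction.isGen_of_elementary (fun x a => ?_) fun E ℓ hℓ hE => ?_
  · show η ((a * x * a⁻¹) ^ m) = η (x ^ m)
    rw [conj_pow, isGen_isClassFunction hη]
  haveI : Group.IsNilpotent E := Artin.isNilpotent_of_isElementary hℓ hE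
  obtain ⟨S₀⟩ : Nonempty (Sylow p E) := inferInstance
  haveI : (S₀ : Subgroup E).Normal :=
    Sylow.normal_of_normalizerCondition (Group.normalizerCondition_of_isNilpotent (G := E)) S₀
  obtain ⟨K₀, hK⟩ := Subgroup.exists_right_complement'_of_coprime S₀.card_coprime_index
  have hKp : ∀ k ∈ K₀, ¬ p ∣ orderOf k := by
    intro k hk h
    have h1 : orderOf k ∣ Nat.card K₀ := Subgroup.orderOf_dvd_natCard K₀ hk
    rw [← hK.symm.index_eq_card] at h1
    exact S₀.not_dvd_index (h.trans h1)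
  have hEK : Nat.card E ∣ Nat.card K := Subgroup.card_subgroup_dvd_card E
  have hSo : ∀ s ∈ (S₀ : Subgroup E), ∃ i : ℕ, orderOf s = p ^ i := fun s hs => by
    obtain ⟨i, hi⟩ := IsPGroup.iff_orderOf.1 S₀.2 ⟨s, hs⟩
    exact ⟨i, by rwa [Subgroup.orderOf_mk] at hi⟩
  have hcomm : ∀ s ∈ (S₀ : Subgroup E), ∀ k ∈ K₀, Commute s k := fun s hs k hk => by
    obtain ⟨i, hi⟩ := hSo s hs
    refine CN.commute_of_coprime_group s k ?_
    rw [hi]
    exact ((Fact.out : p.Prime).coprime_iff_not_dvd.2 (hKp k hk)).pow_left i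
  have hval : ∀ s ∈ (S₀ : Subgroup E), ∀ k ∈ K₀, (s * k) ^ m = k := fun s hs k hk => by
    obtain ⟨i, hi⟩ := hSo s hs
    rw [(hcomm s hs k hk).mul_pow, pow_pElement hm₂ hEK hi, pow_regular hm₁ hEK (hKp k hk),
      one_mul]
  have hmul : ∀ a b : E, (a * b) ^ m = a ^ m * b ^ m := by
    intro a b
    obtain ⟨⟨⟨s, hs⟩, ⟨k, hk⟩⟩, rfl⟩ := hK.surjective a
    obtain ⟨⟨⟨s', hs'⟩, ⟨k', hk'⟩⟩, rfl⟩ := hK.surjective b
    show (s * k * (s' * k')) ^ m = (s * k) ^ m * (s' * k') ^ m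
    rw [show s * k * (s' * k') = (s * s') * (k * k') by
        rw [mul_assoc, ← mul_assoc k, ← (hcomm s' hs' k hk).eq]; simp only [mul_assoc],
      hval _ (Subgroup.mul_mem _ hs hs') _ (K₀.mul_mem hk hk'), hval s hs k hk, hval s' hs' k' hk']
  let φ : E →* E := MonoidHom.mk' (fun x => x ^ m) hmul
  have h := isGen_comp φ (isGen_restrict E hη)
  convert h using 1
  funext x
  simp [φ]

variable (N : Subgroup K) [N.Normal]

theorem sum_comp_mk [Fintype K] [Fintype (K ⧸ N)] (F : K ⧸ N → ℂ) :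
    ∑ x : K, F (x : K ⧸ N) = (Nat.card N : ℂ) * ∑ q, F q := by
  classical
  rw [← Finset.sum_fiberwise_of_maps_to (s := Finset.univ) (t := Finset.univ)
    (g := fun x : K => (x : K ⧸ N)) (fun _ _ => Finset.mem_univ _), Finset.mul_sum]
  refine Finset.sum_congr rfl fun q _ => ?_
  rw [Finset.sum_congr rfl (g := fun _ => F q) fun x hx => by rw [(Finset.mem_filter.1 hx).2],
    Finset.sum_const, nsmul_eq_mul]
  congr 1
  rw [← Nat.card_eq_finsetCard]
  refine congrArg Nat.cast (Nat.card_eq_of_bijective (fun n : N =>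
    (⟨q.out * (n : K), Finset.mem_filter.2 ⟨Finset.mem_univ _, by
      rw [QuotientGroup.mk_mul_of_mem _ n.2, QuotientGroup.out_eq']⟩⟩ :
        (Finset.univ.filter fun x : K => (x : K ⧸ N) = q : Finset K))) ⟨?_, ?_⟩).symm
  · intro a b h
    exact Subtype.ext (mul_left_cancel (congrArg Subtype.val h))
  · rintro ⟨x, hx⟩
    refine ⟨⟨q.out⁻¹ * x, QuotientGroup.eq.1 ?_⟩, Subtype.ext (mul_inv_cancel_left _ _)⟩
    rw [QuotientGroup.out_eq', (Finset.mem_filter.1 hx).2]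

/-- A generalized character constant on the cosets factors through the quotient. -/
theorem exists_deflate_gen {f : K → ℂ} (hf : Cfsg.IsGeneralizedCharacter K f)
    (hconst : ∀ x, ∀ n ∈ N, f (x * n) = f x) :
    ∃ g : K ⧸ N → ℂ, Cfsg.IsGeneralizedCharacter (K ⧸ N) g ∧ ∀ x : K, f x = g (x : K ⧸ N) := by
  haveI := Fintype.ofFinite K
  haveI := Fintype.ofFinite (K ⧸ N)
  set g : K ⧸ N → ℂ := fun q => f q.out
  have hg : ∀ x : K, f x = g (x : K ⧸ N) := fun x => by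
    obtain ⟨n, hn⟩ := QuotientGroup.mk_out_eq_mul N x
    show f x = f (x : K ⧸ N).out
    rw [hn, hconst x n n.2]
  have hcl : Cfsg.IsClassFunction (K ⧸ N) g := fun q a => by
    obtain ⟨x, rfl⟩ := QuotientGroup.mk_surjective q
    obtain ⟨c, rfl⟩ := QuotientGroup.mk_surjective a
    rw [← QuotientGroup.mk_inv, ← QuotientGroup.mk_mul, ← QuotientGroup.mk_mul, ← hg, ← hg,
      isGen_isClassFunction hf]
  refine ⟨g, isGen_of_classInner_int hcl fun χ hχ => ?_, hg⟩
  obtain ⟨z, hz⟩ := classInner_gen_int hf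
    (isGen_of_isCharacter (irr_isCharacter (inflIrr (N := N) ⟨χ, hχ⟩)))
  refine ⟨z, ?_⟩
  rw [← hz, classInner_def, classInner_def,
    Finset.sum_congr rfl fun x _ => show f x * conj ((inflIrr (N := N) ⟨χ, hχ⟩ : K → ℂ) x) =
      (fun q => g q * conj (χ q)) (x : K ⧸ N) by rw [hg x]; rfl, sum_comp_mk N fun q => g q * conj (χ q)]
  have hc : (Nat.card K : ℂ) = (Nat.card (K ⧸ N) : ℂ) * (Nat.card N : ℂ) := by
    rw [← Nat.cast_mul, ← Subgroup.card_eq_card_quotient_mul_card_subgroup]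
  have : (Nat.card N : ℂ) ≠ 0 := Nat.cast_ne_zero.2 Nat.card_pos.ne'
  rw [hc]
  field_simp

/-- The regular elements biject with those of the quotient by a central `p`-subgroup. -/
theorem sum_regular (hp : p.Prime) (hN : IsPGroup p N) (hc : N ≤ Subgroup.center K) [Fintype K]
    [Fintype (K ⧸ N)] (F : K ⧸ N → ℂ) :
    ∑ x : K, (if ¬ p ∣ orderOf x then F (x : K ⧸ N) else 0) =
      ∑ q : K ⧸ N, if ¬ p ∣ orderOf q then F q else 0 := by
  classical
  haveI := Fact.mk hp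
  obtain ⟨m, hm₁, hm₂⟩ := exists_regular_exp (K := K) hp
  have hQ : Nat.card (K ⧸ N) ∣ Nat.card K := Subgroup.card_quotient_dvd_card N
  rw [← Finset.sum_filter, ← Finset.sum_filter]
  refine Finset.sum_bij (fun x _ => (x : K ⧸ N)) (fun x hx => ?_) (fun x hx y hy h => ?_)
    (fun q hq => ?_) fun _ _ => rfl
  · exact Finset.mem_filter.2 ⟨Finset.mem_univ _, fun h =>
      (Finset.mem_filter.1 hx).2 (h.trans (orderOf_map_dvd (QuotientGroup.mk' N) x))⟩
  · have hn : x⁻¹ * y ∈ N := QuotientGroup.eq.1 h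
    obtain ⟨i, hi⟩ := IsPGroup.iff_orderOf.1 hN ⟨_, hn⟩
    rw [Subgroup.orderOf_mk] at hi
    have hcm : Commute x (x⁻¹ * y) := Subgroup.mem_center_iff.1 (hc hn) x
    have e := hcm.mul_pow m
    rw [mul_inv_cancel_left, pow_regular hm₁ dvd_rfl (Finset.mem_filter.1 hy).2,
      pow_regular hm₁ dvd_rfl (Finset.mem_filter.1 hx).2, pow_pElement hm₂ dvd_rfl hi, mul_one] at e
    exact e.symm
  · refine ⟨q.out ^ m, Finset.mem_filter.2 ⟨Finset.mem_univ _, pow_is_regular hp hm₂ _⟩, ?_⟩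
    show ((q.out ^ m : K) : K ⧸ N) = q
    rw [QuotientGroup.mk_pow, QuotientGroup.out_eq',
      pow_regular hm₁ hQ (Finset.mem_filter.1 hq).2]

end Cfsg.Agent.CharTheory.CyclicCofactor
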