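import Mathlib
import Cfsg.Agent.Lib.CharTheory.CyclicCofactor.Regular
import Cfsg.Agent.Lib.CharTheory.CyclicCofactor.Twist
import Cfsg.Agent.Lib.CharTheory.MajorContrib.Mean

/-!
# The table of a block over a central `p`-subgroup

On the regular elements the members of a block are integral combinations of inflated members of
the block of the quotient, so its table is a pull back of the table below.
-/

set_option linter.style.haveILetI false
set_option linter.unusedSectionVars false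

namespace Cfsg.Agent.CharTheory.CyclicCofactor

open Cfsg.Agent.Blocks Cfsg.Agent.Characters Cfsg.Agent.BlockCharsA Cfsg.Agent.Blocks.Star
open Cfsg.Agent.BlockCharsA.RegularPart
open Cfsg.Agent.CharTheory.MajorContrib MonoidAlgebra
open scoped ComplexConjugate

universe u

variable {K : Type u} [Group K] [Finite K] {p : ℕ} {M : Ideal Cfsg.AlgInt} {N : Subgroup K}
  [N.Normal] {b : Set (Cfsg.IrrCharacter K)} {Bbar : Set (Cfsg.IrrCharacter (K ⧸ N))}

/-- Only one block of the quotient inflates into a block over a central `p`-subgroup. -/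
theorem mem_of_inflIrr_mem (hM : Cfsg.IsPModular p M) (hN : IsPGroup p N)
    (hc : N ≤ Subgroup.center K) (hb : Cfsg.IsPBlock M b) (hBbar : Cfsg.IsPBlock M Bbar)
    (hsub : ∀ χ ∈ Bbar, inflIrr χ ∈ b) {θ : Cfsg.IrrCharacter (K ⧸ N)}
    (hθ : inflIrr θ ∈ b) : θ ∈ Bbar := by
  classical
  haveI := Fintype.ofFinite K
  haveI := Fintype.ofFinite (K ⧸ N)
  by_contra hn
  obtain ⟨χ, hχ⟩ := block_nonempty hM hBbar
  set e1 := blockIdem Bbar with he1
  set el : MonoidAlgebra ℂ K :=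
    ofFun fun x => if p ∣ orderOf x then 0 else e1.coeff (x : K ⧸ N) with hel
  have hcoe : ∀ x, el.coeff x = if p ∣ orderOf x then 0 else e1.coeff (x : K ⧸ N) := fun x => by
    rw [hel, coeff_ofFun]
  have hcen : IsCentralEl el := fun x a => by
    rw [hcoe, hcoe, QuotientGroup.mk_mul, QuotientGroup.mk_mul, QuotientGroup.mk_inv,
      central_blockIdem Bbar, orderOf_conj']
  have hint : IntEl M el := fun x => by
    rw [hcoe]
    split
    · exact ring_zero hM
    · exact intEl_blockIdem hM hBbar _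
  have hω : ∀ ψ : Cfsg.IrrCharacter (K ⧸ N),
      omega (inflIrr ψ : K → ℂ) el = omega (ψ : K ⧸ N → ℂ) e1 := fun ψ => by
    rw [omega, omega, evalChar_eq_sum, evalChar_eq_sum,
      show (inflIrr ψ : K → ℂ) 1 = (ψ : K ⧸ N → ℂ) 1 from rfl]
    congr 1
    calc _ = ∑ x : K, (if ¬ p ∣ orderOf x then
          (fun q => e1.coeff q * (ψ : K ⧸ N → ℂ) q) (x : K ⧸ N) else 0) := by
          refine Finset.sum_congr rfl fun x _ => ?_
          rw [hcoe]
          by_cases hx : p ∣ orderOf x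
          · rw [if_pos hx, if_neg (not_not.2 hx), zero_mul]
          · rw [if_neg hx, if_pos hx]; rfl
      _ = _ := by
          rw [sum_regular N hM.1 hN hc fun q => e1.coeff q * (ψ : K ⧸ N → ℂ) q]
          refine Finset.sum_congr rfl fun q _ => ?_
          by_cases hq : p ∣ orderOf q
          · rw [if_neg (not_not.2 hq), he1, coeff_blockIdem,
              blockCoeff_eq_zero_of_singular hM (intEl_blockIdem hM hBbar) hq, zero_mul]
          · rw [if_pos hq]
  have h := omega_cong_of_mem hM hb (hsub χ hχ) hθ hcen hint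
  rw [hω, hω, he1, omega_blockIdem_mem hχ, omega_blockIdem_notMem hn] at h
  exact not_ideal_one hM (by simpa [Cong] using h)

/-- On the regular elements a member is an integral combination of the members below. -/
theorem exists_expansion (hM : Cfsg.IsPModular p M) (hN : IsPGroup p N)
    (hc : N ≤ Subgroup.center K) (hb : Cfsg.IsPBlock M b) (hBbar : Cfsg.IsPBlock M Bbar)
    (hsub : ∀ χ ∈ Bbar, inflIrr χ ∈ b) [Fintype (Cfsg.IrrCharacter (K ⧸ N))]
    [DecidablePred (· ∈ Bbar)] {η : Cfsg.IrrCharacter K} (hη : η ∈ b) :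
    ∃ a : Cfsg.IrrCharacter (K ⧸ N) → ℤ, ∀ s : K, ¬ p ∣ orderOf s → (η : K → ℂ) s =
      ∑ θ ∈ Finset.univ.filter (· ∈ Bbar), (a θ : ℂ) * (θ : K ⧸ N → ℂ) (s : K ⧸ N) := by
  classical
  haveI := fact_prime_of_pm hM
  haveI := Fintype.ofFinite K
  haveI := Fintype.ofFinite (K ⧸ N)
  obtain ⟨m, hm₁, hm₂⟩ := exists_regular_exp (K := K) hM.1
  have hgen := isGen_pow hm₁ hm₂ (isGen_of_isCharacter (irr_isCharacter η))
  obtain ⟨g, hg, hgx⟩ := exists_deflate_gen N hgen fun x n hn => by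
    obtain ⟨i, hi⟩ := IsPGroup.iff_orderOf.1 hN ⟨n, hn⟩
    rw [Subgroup.orderOf_mk] at hi
    rw [(show Commute x n from Subgroup.mem_center_iff.1 (hc hn) x).mul_pow,
      pow_pElement hm₂ dvd_rfl hi, mul_one]
  have hint : ∀ θ : Cfsg.IrrCharacter (K ⧸ N), ∃ z : ℤ,
      Cfsg.classInner g (θ : K ⧸ N → ℂ) = (z : ℂ) := fun θ =>
    classInner_gen_int hg (isGen_of_isCharacter (irr_isCharacter θ))
  choose a ha using hint
  refine ⟨a, fun s hs => ?_⟩
  have hreg : ∀ c : K, ¬ p ∣ orderOf c → (η : K → ℂ) c =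
      (fun c => ∑ θ : Cfsg.IrrCharacter (K ⧸ N), (a θ : ℂ) * (inflIrr θ : K → ℂ) c) c := by
    intro c hcr
    have h := hgx c
    rw [pow_regular hm₁ dvd_rfl hcr, classFun_eq_sum (isGen_isClassFunction hg)] at h
    rw [h, Finset.sum_apply]
    exact Finset.sum_congr rfl fun θ _ => by rw [Pi.smul_apply, smul_eq_mul, ha]; rfl
  have h1 : Cfsg.blockPart b (η : K → ℂ) s = (η : K → ℂ) s := by rw [blockPart_irr, if_pos hη]
  rw [← h1, blockPart_congr_reg hM hb hreg hs, blockPart_sum_smul, Finset.sum_filter]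
  refine Finset.sum_congr rfl fun θ _ => ?_
  rw [blockPart_irr]
  by_cases hθ : θ ∈ Bbar
  · rw [if_pos hθ, if_pos (hsub θ hθ)]; rfl
  · rw [if_neg hθ, if_neg fun h => hθ (mem_of_inflIrr_mem hM hN hc hb hBbar hsub h), mul_zero]

/-- The rank does not exceed the rank below. -/
theorem blockRank_le (hM : Cfsg.IsPModular p M) (hN : IsPGroup p N)
    (hc : N ≤ Subgroup.center K) (hb : Cfsg.IsPBlock M b) (hBbar : Cfsg.IsPBlock M Bbar)
    (hsub : ∀ χ ∈ Bbar, inflIrr χ ∈ b) :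
    Cfsg.blockRank p b ≤ Cfsg.blockRank p Bbar := by
  classical
  haveI := Fintype.ofFinite (Cfsg.IrrCharacter (K ⧸ N))
  let T : (K ⧸ N → ℂ) →ₗ[ℂ] (K → ℂ) :=
    { toFun := fun h x => if p ∣ orderOf x then 0 else h (x : K ⧸ N)
      map_add' := fun h h' => funext fun x => by by_cases hx : p ∣ orderOf x <;> simp [hx]
      map_smul' := fun c h => funext fun x => by by_cases hx : p ∣ orderOf x <;> simp [hx] }
  set S := Submodule.span ℂ
    ((fun χ : Cfsg.IrrCharacter (K ⧸ N) => Cfsg.pRegularPart p (χ : K ⧸ N → ℂ)) '' Bbar)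
  show _ ≤ Module.finrank ℂ S
  refine le_trans (Submodule.finrank_mono (t := S.map T) ?_) (Submodule.finrank_map_le T S)
  rw [Submodule.span_le]
  rintro _ ⟨η, hη, rfl⟩
  obtain ⟨a, ha⟩ := exists_expansion hM hN hc hb hBbar hsub hη
  refine ⟨∑ θ ∈ Finset.univ.filter (· ∈ Bbar), (a θ : ℂ) • Cfsg.pRegularPart p (θ : K ⧸ N → ℂ),
    sum_mem fun θ hθ => S.smul_mem _ (Submodule.subset_span
      ⟨θ, (Finset.mem_filter.1 hθ).2, rfl⟩), ?_⟩
  funext x
  show (if p ∣ orderOf x then 0 else _) = _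
  by_cases hx : p ∣ orderOf x
  · simp [Cfsg.pRegularPart, Cfsg.IsPRegular, hx]
  · have hq : ¬ p ∣ orderOf (x : K ⧸ N) := fun h =>
      hx (h.trans (orderOf_map_dvd (QuotientGroup.mk' N) x))
    rw [if_neg hx]
    simp [Cfsg.pRegularPart, Cfsg.IsPRegular, hx, hq, ha x hx, Finset.sum_apply]

/-- A bound on the norms below is a bound on the norms above. -/
theorem form_bound (hM : Cfsg.IsPModular p M) (hN : IsPGroup p N)
    (hc : N ≤ Subgroup.center K) (hb : Cfsg.IsPBlock M b) (hBbar : Cfsg.IsPBlock M Bbar)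
    (hsub : ∀ χ ∈ Bbar, inflIrr χ ∈ b)
    (hcard : p ^ Cfsg.blockDefect p b = Nat.card N * p ^ Cfsg.blockDefect p Bbar)
    {bs : Finset (Cfsg.IrrCharacter K)} (hbs : ∀ η, η ∈ bs ↔ η ∈ b)
    (z : Cfsg.IrrCharacter K → Cfsg.IrrCharacter K → ℤ)
    (hz : ∀ η ∈ bs, ∀ η' ∈ bs, Contrib.contrib p b η η' = (z η η' : ℂ))
    {bs' : Finset (Cfsg.IrrCharacter (K ⧸ N))} (hbs' : ∀ θ, θ ∈ bs' ↔ θ ∈ Bbar)
    (z' : Cfsg.IrrCharacter (K ⧸ N) → Cfsg.IrrCharacter (K ⧸ N) → ℤ)
    (hz' : ∀ θ ∈ bs', ∀ θ' ∈ bs', Contrib.contrib p Bbar θ θ' = (z' θ θ' : ℂ))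
    (hmin : ∀ u', form bs' z' u' u' = 0 ∨ (Cfsg.blockRank p Bbar : ℤ) ≤ form bs' z' u' u')
    (u : Cfsg.IrrCharacter K → ℤ) :
    form bs z u u = 0 ∨ (Cfsg.blockRank p b : ℤ) ≤ form bs z u u := by
  classical
  haveI := Fintype.ofFinite K
  haveI := Fintype.ofFinite (K ⧸ N)
  haveI := Fintype.ofFinite (Cfsg.IrrCharacter (K ⧸ N))
  have hex : ∀ η : Cfsg.IrrCharacter K, ∃ a : Cfsg.IrrCharacter (K ⧸ N) → ℤ,
      η ∈ bs → ∀ s : K, ¬ p ∣ orderOf s → (η : K → ℂ) s =
        ∑ θ ∈ Finset.univ.filter (· ∈ Bbar), (a θ : ℂ) * (θ : K ⧸ N → ℂ) (s : K ⧸ N) := fun η => by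
    by_cases hη : η ∈ bs
    · obtain ⟨a, ha⟩ := exists_expansion hM hN hc hb hBbar hsub ((hbs η).1 hη)
      exact ⟨a, fun _ => ha⟩
    · exact ⟨0, fun h => absurd h hη⟩
  choose a ha using hex
  have hf : Finset.univ.filter (· ∈ Bbar) = bs' := Finset.ext fun θ => by simp [hbs' θ]
  rw [hf] at ha
  set u' := fun θ => ∑ η ∈ bs, u η * a η θ with hu'
  suffices h : form bs z u u = form bs' z' u' u' by
    rw [h]
    exact (hmin u').imp_right fun h' =>
      le_trans (Int.ofNat_le.2 (blockRank_le hM hN hc hb hBbar hsub)) h'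
  have hcN : ((p ^ Cfsg.blockDefect p b : ℕ) : ℂ) / (Nat.card K : ℂ) =
      ((p ^ Cfsg.blockDefect p Bbar : ℕ) : ℂ) / (Nat.card (K ⧸ N) : ℂ) := by
    rw [hcard, Subgroup.card_eq_card_quotient_mul_card_subgroup N, Nat.cast_mul, Nat.cast_mul,
      mul_comm (Nat.card N : ℂ), mul_div_mul_right _ _ (Nat.cast_ne_zero.2 Nat.card_pos.ne')]
  set c : ℂ := ((p ^ Cfsg.blockDefect p Bbar : ℕ) : ℂ) / (Nat.card (K ⧸ N) : ℂ)
  set F : K ⧸ N → ℂ := fun q => (∑ θ ∈ bs', (u' θ : ℂ) * (θ : K ⧸ N → ℂ) q) *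
    conj (∑ θ ∈ bs', (u' θ : ℂ) * (θ : K ⧸ N → ℂ) q) with hF
  apply Int.cast_injective (α := ℂ)
  have e2 : ((form bs' z' u' u' : ℤ) : ℂ) =
      c * ∑ q : K ⧸ N, if ¬ p ∣ orderOf q then F q else 0 := by
    simp only [form, Int.cast_sum, Int.cast_mul]
    rw [Finset.sum_congr rfl fun θ hθ => Finset.sum_congr rfl fun θ' hθ' => by
      rw [← hz' θ hθ θ' hθ']]
    simp only [Contrib.contrib, regSum_eq_sum, Finset.mul_sum]
    rw [Finset.sum_congr rfl fun θ _ => Finset.sum_comm, Finset.sum_comm]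
    refine Finset.sum_congr rfl fun q _ => ?_
    split
    · simp only [F, map_sum, map_mul, map_intCast, Finset.sum_mul, Finset.mul_sum]
      rw [Finset.sum_comm]
      exact Finset.sum_congr rfl fun θ _ => Finset.sum_congr rfl fun θ' _ => by ring
    · simp
  rw [e2, ← sum_regular N hM.1 hN hc]
  simp only [form, Int.cast_sum, Int.cast_mul]
  rw [Finset.sum_congr rfl fun η hη => Finset.sum_congr rfl fun η' hη' => by
    rw [← hz η hη η' hη']]
  simp only [Contrib.contrib, regSum_eq_sum, hcN, Finset.mul_sum]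
  rw [Finset.sum_congr rfl fun η _ => Finset.sum_comm, Finset.sum_comm]
  refine Finset.sum_congr rfl fun x _ => ?_
  split
  swap
  · simp
  next hx =>
    have hsum : ∑ θ ∈ bs', (u' θ : ℂ) * (θ : K ⧸ N → ℂ) (x : K ⧸ N) =
        ∑ η ∈ bs, (u η : ℂ) * (η : K → ℂ) x := by
      rw [Finset.sum_congr rfl (g := fun η => (u η : ℂ) * ∑ θ ∈ bs', (a η θ : ℂ) *
        (θ : K ⧸ N → ℂ) (x : K ⧸ N)) fun η hη => by rw [ha η hη x hx]]
      simp only [u', Int.cast_sum, Int.cast_mul, Finset.sum_mul, Finset.mul_sum]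
      rw [Finset.sum_comm]
      exact Finset.sum_congr rfl fun η _ => Finset.sum_congr rfl fun θ _ => by ring
    simp only [F]
    rw [hsum]
    simp only [map_sum, map_mul, map_intCast, Finset.sum_mul, Finset.mul_sum]
    conv_rhs => rw [Finset.sum_comm]
    exact Finset.sum_congr rfl fun η _ => Finset.sum_congr rfl fun η' _ => by ring

end Cfsg.Agent.CharTheory.CyclicCofactor
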