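import Mathlib
import Cfsg.Agent.Lib.CharTheory.MajorContrib.Form
import Cfsg.Agent.Lib.CharTheory.MajorContrib.Gram

/-!
# The norms of a table whose complementary lattice has a small Gram determinant
-/

namespace Cfsg.Agent.CharTheory.CyclicCofactor

open Matrix Cfsg.Agent.CharTheory.MajorContrib

/-- If `q - z` is `W Q Wᵀ` with `det (Wᵀ W) ≤ q`, the norms of `z` are `0` or at least the rank. -/
theorem norm_eq_zero_or_ge_of_det {κ : Type*} [Fintype κ] [DecidableEq κ] (z : Matrix κ κ ℤ)
    {q : ℤ} (hq : 0 < q) {r l : ℕ} (hl : r + l = Fintype.card κ) (hlt : ∀ i, z i i < q)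
    (W : Matrix κ (Fin r) ℤ) (Q : Matrix (Fin r) (Fin r) ℤ) (hQs : Qᵀ = Q)
    (hrep : q • (1 : Matrix κ κ ℤ) - z = W * Q * Wᵀ)
    (hG : Q * (Wᵀ * W) = q • (1 : Matrix (Fin r) (Fin r) ℤ))
    (hdetle : (Wᵀ * W).det ≤ q) (u : κ → ℤ) :
    u ⬝ᵥ (z *ᵥ u) = 0 ∨ (l : ℤ) ≤ u ⬝ᵥ (z *ᵥ u) := by
  have hW : ∀ i, W i ≠ 0 := fun i h0 => by
    have h1 := congrFun (congrFun hrep i) i
    have h2 : (W * Q * Wᵀ) i i = 0 := by simp [mul_apply, h0]
    rw [h2, Matrix.sub_apply, Matrix.smul_apply, one_apply_eq, smul_eq_mul, mul_one] at h1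
    have := hlt i
    omega
  have hdetpos : 0 < (Wᵀ * W).det := by
    refine lt_of_le_of_ne (det_gram_nonneg W) fun h0 => ?_
    have h1 : Q.det * (Wᵀ * W).det = q ^ r := by
      rw [← det_mul, hG, det_smul, det_one, mul_one, Fintype.card_fin]
    rw [← h0, mul_zero] at h1
    exact pow_ne_zero r hq.ne' h1.symm
  set A : Matrix κ (Fin r ⊕ Unit) ℤ := fromCols W (replicateCol Unit u) with hA
  set N : ℤ := u ⬝ᵥ (z *ᵥ u) with hN
  have hGram : (Aᵀ * A).det * q = (Wᵀ * W).det * N := by
    have h1 : Aᵀ * A * fromBlocks 1 (-(Q * (Wᵀ * replicateCol Unit u))) 0 (q • 1) =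
        fromBlocks (Wᵀ * W) 0 ((replicateCol Unit u)ᵀ * W)
          (replicateCol Unit fun _ : Unit => N) := by
      rw [hA, transpose_fromCols, fromRows_mul_fromCols, fromBlocks_multiply]
      congr 1
      · simp
      · rw [Matrix.mul_neg, ← Matrix.mul_assoc (Wᵀ * W) Q,
          show Wᵀ * W * Q = q • (1 : Matrix (Fin r) (Fin r) ℤ) from by
            have h := congrArg Matrix.transpose hG
            rwa [transpose_mul, hQs, transpose_mul, transpose_transpose, transpose_smul,
              transpose_one] at h]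
        rw [Matrix.smul_mul, Matrix.one_mul, Matrix.mul_smul, Matrix.mul_one, neg_add_cancel]
      · simp
      · rw [Matrix.mul_smul, Matrix.mul_one]
        ext i j
        have hzy : z = q • (1 : Matrix κ κ ℤ) - W * Q * Wᵀ := by
          rw [← hrep]; abel
        rw [replicateCol_apply, hN, hzy, sub_mulVec, smul_mulVec, one_mulVec, dotProduct_sub,
          dotProduct_smul, ← mulVec_mulVec, ← mulVec_mulVec]
        simp [mul_apply, dotProduct, mulVec, Finset.mul_sum, Matrix.mul_assoc, Matrix.intCast_apply]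
        ring
    have h2 := congrArg Matrix.det h1
    rw [det_mul, det_fromBlocks_zero₂₁, det_fromBlocks_zero₁₂, det_one, one_mul, det_smul, det_one,
      mul_one, det_unique (replicateCol Unit fun _ : Unit => N)] at h2
    simpa using h2
  rcases eq_or_ne N 0 with h0 | h0
  · exact Or.inl h0
  right
  have hAdet : (Aᵀ * A).det ≠ 0 := fun h => h0 (by
    rw [h, zero_mul] at hGram
    exact (mul_eq_zero.1 hGram.symm).resolve_left hdetpos.ne')
  have hArow : ∀ i, A i ≠ 0 := fun i h => hW i (funext fun j => by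
    have := congrFun h (Sum.inl j)
    simpa [A] using this)
  have h3 := card_le_det_gram A hArow hAdet
  rw [Fintype.card_sum, Fintype.card_fin, Fintype.card_unit] at h3
  have h4 : (l : ℤ) ≤ (Aᵀ * A).det := by
    omega
  have hApos : 0 < (Aᵀ * A).det := lt_of_le_of_ne (det_gram_nonneg A) hAdet.symm
  have hNpos : 0 < N := by nlinarith
  nlinarith

end Cfsg.Agent.CharTheory.CyclicCofactor
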