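import Mathlib
import Cfsg.Agent.BlockCharsA.Contrib
import Cfsg.Agent.Lib.Blocks.Star.Unit
import Cfsg.Agent.Lib.Blocks.Star.Major

/-!
# The pairing at a pair with one Brauer character
-/

set_option linter.style.haveILetI false
set_option linter.unusedSectionVars false

namespace Cfsg.Agent.CharTheory.CyclicCofactor

open Cfsg.Agent.Blocks Cfsg.Agent.Characters Cfsg.Agent.BlockCharsA Cfsg.Agent.Blocks.Star
open Cfsg.Agent.BlockCharsA.BrauerPairs Cfsg.Agent.BlockCharsA.RegularPart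
open MonoidAlgebra
open scoped ComplexConjugate

universe u

variable {G : Type u} [Group G] [Finite G] [Fintype G] {p : ℕ} {M : Ideal Cfsg.AlgInt}

/-- As `pairing_unit`, with the shift by any `p`-element that is central in the centralizer. -/
theorem pairing_unit_shift (hM : Cfsg.IsPModular p M) {B : Set (Cfsg.IrrCharacter G)} {u w : G}
    {g : Set (Cfsg.IrrCharacter (CU u))} {k : ℕ} (hw : ∀ c : CU u, Commute w (c : G))
    (hwk : w ^ p ^ k = 1)
    (h : Cfsg.IsBrauerPairOf p M B (Subgroup.zpowers u) g) {χ : Cfsg.IrrCharacter G} (hχ : χ ∈ B)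
    (h0 : Cfsg.blockHeight p B (χ : G → ℂ) = 0) {ξ : Cfsg.IrrCharacter (CU u)} (hξ : ξ ∈ g) :
    Cfsg.MemLocalRing M
        (regSum p (fun c : CU u => (χ : G → ℂ) (w * c)) (ξ : CU u → ℂ) / (ξ : CU u → ℂ) 1) ∧
      ¬ Cfsg.MemLocalIdeal M
        (regSum p (fun c : CU u => (χ : G → ℂ) (w * c)) (ξ : CU u → ℂ) / (ξ : CU u → ℂ) 1) := by
  classical
  haveI := Fintype.ofFinite (CU u)
  set z := regEl p (χ : G → ℂ)
  have hz : IsCentralEl z := central_regEl (irr_isClassFunction χ)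
  have hzi : IntEl M z := intEl_regEl hM (irr_isCharacter χ)
  set z' : MonoidAlgebra ℂ (CU u) := ofFun fun c =>
    if p ∣ orderOf c then 0 else (χ : G → ℂ) (w * ((c⁻¹ : CU u) : G)) with hz'
  have hcoe : ∀ c, z'.coeff c =
      if p ∣ orderOf c then 0 else (χ : G → ℂ) (w * ((c⁻¹ : CU u) : G)) := fun c => by
    rw [hz', coeff_ofFun]
  have hz'c : IsCentralEl z' := fun c a => by
    rw [hcoe, hcoe]
    simp only [orderOf_conj']
    split
    · rfl
    rw [← irr_isClassFunction χ (w * ((c⁻¹ : CU u) : G)) (a : G),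
      show (((a * c * a⁻¹)⁻¹ : CU u) : G) = (a : G) * ((c⁻¹ : CU u) : G) * (a : G)⁻¹ by
        simp [mul_assoc],
      show (a : G) * (w * ((c⁻¹ : CU u) : G)) * (a : G)⁻¹ =
        w * ((a : G) * ((c⁻¹ : CU u) : G) * (a : G)⁻¹) by
          rw [← mul_assoc, ← (hw a).eq]; simp only [mul_assoc]]
  have hz'i : IntEl M z' := fun c => by
    rw [hcoe]
    split
    · exact ring_zero hM
    · exact ring_of_isIntegral hM (char_value_isIntegral (irr_isCharacter χ) _)
  have hcong : CongEl M z' (br (Subgroup.zpowers u) z) := congEl_iff.2 fun c => by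
    rw [hcoe, br, coeff_restrEl, coeff_regEl, Subgroup.orderOf_coe]
    by_cases hc : p ∣ orderOf c
    · rw [if_pos hc, if_pos hc]; exact cong_refl hM 0
    · rw [if_neg hc, if_neg hc, ← Subgroup.coe_inv]
      exact char_cong_of_commute hM χ (hw _) hwk
        (by rwa [Subgroup.orderOf_coe, orderOf_inv])
  have he : omega (ξ : CU u → ℂ) z' =
      regSum p (fun c : CU u => (χ : G → ℂ) (w * c)) (ξ : CU u → ℂ) / (ξ : CU u → ℂ) 1 := by
    rw [omega, evalChar_eq_sum, regSum_eq_sum]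
    congr 1
    refine Fintype.sum_equiv (Equiv.inv _) _ _ fun c => ?_
    rw [hcoe, Equiv.inv_apply, orderOf_inv]
    by_cases hc : p ∣ orderOf c
    · rw [if_pos hc, if_neg (not_not.2 hc), zero_mul]
    · rw [if_neg hc, if_pos hc, ← char_inv (irr_isCharacter ξ), inv_inv]
  rw [← he]
  refine ⟨omega_ring hM ξ hz'c hz'i, fun hid => ?_⟩
  have h1 := cong_trans hM (omega_cong hM ξ hz'c (central_br fun v _ x => hz x v) hcong)
    (omega_br_cong hM h hξ hχ hz hzi)
  exact omega_regEl_unit hM h.2.1 hχ hχ h0 ((ideal_iff_of_cong hM h1).1 hid)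

/-- On regular elements the part at a block of rank one is a multiple of a member. -/
theorem exists_part_eq (hM : Cfsg.IsPModular p M) {K : Type u} [Group K] [Finite K]
    {g : Set (Cfsg.IrrCharacter K)} (hr : Cfsg.blockRank p g = 1) {ξ : Cfsg.IrrCharacter K}
    (hξ : ξ ∈ g) (F : K → ℂ) :
    ∃ a : ℂ, ∀ s : K, ¬ p ∣ orderOf s → Cfsg.blockPart g F s = a * (ξ : K → ℂ) s := by
  classical
  haveI := Fintype.ofFinite K
  haveI := Fintype.ofFinite (Cfsg.IrrCharacter K)
  set Sp := Submodule.span ℂ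
    ((fun χ : Cfsg.IrrCharacter K => Cfsg.pRegularPart p (χ : K → ℂ)) '' g)
  have hne : (⟨_, Submodule.subset_span ⟨ξ, hξ, rfl⟩⟩ : Sp) ≠ 0 := fun h => irr_one_ne_zero ξ.2 (by
    have := congrFun (congrArg Subtype.val h) 1
    simpa [Cfsg.pRegularPart, Cfsg.IsPRegular, hM.1.ne_one] using this)
  have hmul : ∀ ψ ∈ g, ∃ c : ℂ, ∀ s : K, ¬ p ∣ orderOf s →
      (ψ : K → ℂ) s = c * (ξ : K → ℂ) s := fun ψ hψ => by
    obtain ⟨c, hc⟩ := (finrank_eq_one_iff_of_nonzero' _ hne).1 hr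
      ⟨_, Submodule.subset_span ⟨ψ, hψ, rfl⟩⟩
    refine ⟨c, fun s hs => ?_⟩
    have := congrFun (congrArg Subtype.val hc) s
    simpa [Cfsg.pRegularPart, Cfsg.IsPRegular, hs] using this.symm
  choose! c hc using hmul
  refine ⟨∑ ψ ∈ Finset.univ.filter (fun ψ => ψ ∈ g), Cfsg.classInner F (ψ : K → ℂ) * c ψ,
    fun s hs => ?_⟩
  rw [blockPart_eq_expand, Finset.sum_mul]
  exact Finset.sum_congr rfl fun ψ hψ => by
    rw [hc ψ (Finset.mem_filter.1 hψ).2 s hs, mul_assoc]

/-- At a pair of rank one and defect `j` the normalised pairing is a unit. -/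
theorem weight_unit (hM : Cfsg.IsPModular p M) {B : Set (Cfsg.IrrCharacter G)} {u : G} {k j : ℕ}
    (hu : orderOf u = p ^ k) {g : Set (Cfsg.IrrCharacter (CU u))}
    (h : Cfsg.IsBrauerPairOf p M B (Subgroup.zpowers u) g) (hd : Cfsg.blockDefect p g = j)
    (hr : Cfsg.blockRank p g = 1) {χ : Cfsg.IrrCharacter G} (hχ : χ ∈ B)
    (h0 : Cfsg.blockHeight p B (χ : G → ℂ) = 0) :
    Cfsg.MemLocalRing M ((p ^ j : ℕ) * pairing p (χ : G → ℂ) (χ : G → ℂ) u (elF (CU u) g) /
        (Nat.card (CU u) : ℂ)) ∧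
      ¬ Cfsg.MemLocalIdeal M ((p ^ j : ℕ) * pairing p (χ : G → ℂ) (χ : G → ℂ) u (elF (CU u) g) /
        (Nat.card (CU u) : ℂ)) := by
  classical
  haveI := Fintype.ofFinite (CU u)
  have hp := hM.1
  obtain ⟨ξ, hξ, hξ0⟩ := exists_height_zero hM h.1.2
  have hcl := irr_isClassFunction χ
  obtain ⟨a, ha⟩ := exists_part_eq hM hr hξ (shiftCU (χ : G → ℂ) u)
  set R := regSum p (ξ : CU u → ℂ) (ξ : CU u → ℂ) with hR
  set S := regSum p (shiftCU (χ : G → ℂ) u) (ξ : CU u → ℂ) with hS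
  have hth : ∀ c : CU u, ¬ p ∣ orderOf c →
      th (χ : G → ℂ) u (elF (CU u) g) (c : G) = a * (ξ : CU u → ℂ) c := fun c hc => by
    rw [th_eq hcl, ha c hc]
  have hSa : S = a * R := by
    rw [hS, regSum_shift_eq hM h.1.2 hcl hξ, hR, regSum_eq_sum, regSum_eq_sum, Finset.mul_sum]
    refine Finset.sum_congr rfl fun c _ => ?_
    split
    · next hc => rw [hth c hc]; ring
    · rw [mul_zero]
  have hP : pairing p (χ : G → ℂ) (χ : G → ℂ) u (elF (CU u) g) = a * conj a * R := by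
    rw [pairing, sum_regAt, hR, regSum_eq_sum, regSum_eq_sum, Finset.mul_sum]
    refine Finset.sum_congr rfl fun c _ => ?_
    split
    · next hc => rw [hth c hc, map_mul]; ring
    · rw [mul_zero]
  have hRc : conj R = R := by
    rw [hR, regSum_eq_sum, map_sum]
    refine Finset.sum_congr rfl fun c _ => ?_
    split
    · rw [map_mul, Complex.conj_conj, mul_comm]
    · exact map_zero _
  obtain ⟨z, hz, -, hz0, -⟩ := Contrib.exists_int hM h.1.2 hξ hξ
  have hzpos : 0 < z := Contrib.contrib_self_pos hM g ξ hz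
  obtain ⟨n, rfl⟩ := Int.eq_ofNat_of_zero_le hzpos.le
  have hn : n ≠ 0 := fun e => by simp [e] at hzpos
  have hnp : ¬ p ∣ n := by
    intro hdvd
    have hu' := (ratio_unit_iff hM h.1.2 hξ hξ).2 hξ0
    obtain ⟨w, hw, hw', -⟩ := exists_coeff hM ξ ξ
    refine hu' ?_
    have hdeg : (Cfsg.charDegree (ξ : CU u → ℂ)).factorization p + Cfsg.blockDefect p g =
        (Nat.card (CU u)).factorization p + Cfsg.blockHeight p g (ξ : CU u → ℂ) :=
      degree_factorization_eq hM h.1.2 hξ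
    have hz' := hz
    rw [Contrib.contrib, hd] at hz'
    rw [hξ0, hd, Nat.add_zero] at hdeg
    rw [Contrib.classInner_hat_regSum] at hw
    have hle : Cfsg.blockDefect p g ≤ (Nat.card (CU u)).factorization p := blockDefect_le p g
    rw [hd] at hle
    have he : (w : ℂ) = ((p ^ ((Nat.card (CU u)).factorization p - j) * n : ℕ) : ℂ) := by
      rw [← hw, Nat.cast_mul, ← Int.cast_natCast (R := ℂ) n, ← hz', ← mul_assoc,
        mul_div, ← Nat.cast_mul, ← pow_add, Nat.sub_add_cancel hle]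
    obtain ⟨d', hd', hdd⟩ := exists_natCast_eq_pow_mul hM (charDegree_pos ξ).ne'
    have hpa : ((p : ℂ) ^ ((Nat.card (CU u)).factorization p - j)) ≠ 0 :=
      pow_ne_zero _ (Nat.cast_ne_zero.2 hp.ne_zero)
    have e2 : (d' : ℂ) * ratio p (ξ : CU u → ℂ) (ξ : CU u → ℂ) = (n : ℂ) := by
      refine mul_left_cancel₀ hpa ?_
      rw [← mul_assoc, show (Nat.card (CU u)).factorization p - j =
        (Cfsg.charDegree (ξ : CU u → ℂ)).factorization p by omega, ← hdd, ← hw', he]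
      push_cast
      rw [show (Nat.card (CU u)).factorization p - j =
        (Cfsg.charDegree (ξ : CU u → ℂ)).factorization p by omega]
      rfl
    have h3 : Cfsg.MemLocalIdeal M ((d' : ℂ) * ratio p (ξ : CU u → ℂ) (ξ : CU u → ℂ)) := by
      rw [e2]; exact (ideal_natCast_iff hM n).2 hdvd
    rw [ideal_mul_iff hM (ring_natCast hM d') (ratio_ring hM ξ ξ), ideal_natCast_iff hM] at h3
    exact h3.resolve_left hd'
  obtain ⟨hU, hUu⟩ := pairing_unit hM ⟨k, hu⟩ h hχ h0 hξ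
  obtain ⟨hV, hVu⟩ := pairing_unit_shift hM (w := u⁻¹) (k := k)
    (fun c => (commute_of_mem_CU c.2).inv_left) (by rw [inv_pow, ← hu, pow_orderOf_eq_one, inv_one])
    h hχ h0 hξ
  set U := S / (ξ : CU u → ℂ) 1
  set V := regSum p (fun c : CU u => (χ : G → ℂ) (u⁻¹ * c)) (ξ : CU u → ℂ) / (ξ : CU u → ℂ) 1
  have hSc : conj S = regSum p (fun c : CU u => (χ : G → ℂ) (u⁻¹ * c)) (ξ : CU u → ℂ) := by
    rw [hS, regSum_eq_sum, regSum_eq_sum, map_sum]
    refine Fintype.sum_equiv (Equiv.inv _) _ _ fun c => ?_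
    rw [Equiv.inv_apply, orderOf_inv]
    split
    · rw [map_mul, Complex.conj_conj, ← char_inv (irr_isCharacter ξ), inv_inv, shiftCU,
        ← char_inv (irr_isCharacter χ), mul_inv_rev, Subgroup.coe_inv,
        ((commute_of_mem_CU c.2).inv_left.inv_right).eq]
    · exact map_zero _
  set D := Cfsg.charDegree (ξ : CU u → ℂ) with hD
  have hD1 : (ξ : CU u → ℂ) 1 = (D : ℂ) := (charDegree_cast ξ).symm
  have hD0 : D ≠ 0 := fun e => irr_one_ne_zero ξ.2 (by rw [hD1, e, Nat.cast_zero])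
  have hC0 : (Nat.card (CU u) : ℂ) ≠ 0 := natCard_ne_zero
  have hpj : ((p ^ j : ℕ) : ℂ) ≠ 0 := natCast_p_pow_ne_zero hM j
  have hRn : R = (n : ℂ) * (Nat.card (CU u) : ℂ) / ((p ^ j : ℕ) : ℂ) := by
    rw [Contrib.contrib, hd, Int.cast_natCast] at hz
    rw [hR, ← hz]
    field_simp
  have hR0 : R ≠ 0 := by
    rw [hRn]
    exact div_ne_zero (mul_ne_zero (Nat.cast_ne_zero.2 hn) hC0) hpj
  have key : (p ^ j : ℕ) * pairing p (χ : G → ℂ) (χ : G → ℂ) u (elF (CU u) g) /
      (Nat.card (CU u) : ℂ) =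
      ((D * p ^ j * (D * p ^ j) : ℕ) : ℂ) / ((Nat.card (CU u) * Nat.card (CU u) * n : ℕ) : ℂ) *
        (U * V) := by
    have e1 : U * V = S * conj S / ((D : ℂ) * D) := by
      simp only [U, V]
      rw [← hSc, hD1, div_mul_div_comm]
    rw [e1, hP, hSa, map_mul, hRc]
    have : (D : ℂ) ≠ 0 := Nat.cast_ne_zero.2 hD0
    have : (n : ℂ) ≠ 0 := Nat.cast_ne_zero.2 hn
    rw [hRn]
    push_cast
    field_simp
  have hdeg : (Cfsg.charDegree (ξ : CU u → ℂ)).factorization p + Cfsg.blockDefect p g =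
      (Nat.card (CU u)).factorization p + Cfsg.blockHeight p g (ξ : CU u → ℂ) :=
    degree_factorization_eq hM h.1.2 hξ
  rw [hd, hξ0, Nat.add_zero, ← hD] at hdeg
  have hA : D * p ^ j ≠ 0 := mul_ne_zero hD0 (pow_ne_zero _ hp.ne_zero)
  have hN : D * p ^ j * (D * p ^ j) ≠ 0 := mul_ne_zero hA hA
  have hC : Nat.card (CU u) ≠ 0 := Nat.card_pos.ne'
  have hM' : Nat.card (CU u) * Nat.card (CU u) * n ≠ 0 := mul_ne_zero (mul_ne_zero hC hC) hn
  have hv : (D * p ^ j * (D * p ^ j)).factorization p =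
      (Nat.card (CU u) * Nat.card (CU u) * n).factorization p := by
    rw [Nat.factorization_mul hA hA, Nat.factorization_mul (mul_ne_zero hC hC) hn,
      Nat.factorization_mul hC hC, Nat.factorization_mul hD0 (pow_ne_zero _ hp.ne_zero),
      hp.factorization_pow]
    simp only [Finsupp.add_apply, Finsupp.single_eq_same,
      Nat.factorization_eq_zero_of_not_dvd hnp]
    omega
  have hUVr : Cfsg.MemLocalRing M (U * V) := ring_mul hM hU hV
  have hUVu : ¬ Cfsg.MemLocalIdeal M (U * V) := fun hi =>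
    ((ideal_mul_iff hM hU hV).1 hi).elim hUu hVu
  rw [key]
  exact ⟨ring_mul hM (ring_natCast_div hM hM' hv.ge) hUVr,
    not_ideal_mul_div hM hN hM' hv hUVr hUVu⟩

end Cfsg.Agent.CharTheory.CyclicCofactor
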