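import Mathlib
import Cfsg.Agent.Lib.Blocks.CyclicSubpairs
import Cfsg.Agent.Lib.Blocks.OrbitCount
import Cfsg.Agent.Lib.CharTheory.MajorContrib.CentralFibre
import Cfsg.Agent.Lib.CharTheory.CyclicCofactor.Fourier
import Cfsg.Agent.Lib.CharTheory.CyclicCofactor.Fusion
import Cfsg.Agent.Lib.CharTheory.CyclicCofactor.Lattice
import Cfsg.Agent.Lib.CharTheory.CyclicCofactor.Pairing
import Cfsg.Agent.Lib.CharTheory.CyclicCofactor.Twist

/-!
# The table of a block with cyclic defect group

Every norm of the contribution table is `0` or at least the rank: the twists of a character of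
height zero span a sublattice of the radical whose Gram determinant is the order of the defect
group times a unit.
-/

set_option linter.style.haveILetI false
set_option linter.unusedSectionVars false

namespace Cfsg.Agent.CharTheory.CyclicCofactor

open Cfsg.Agent.Blocks Cfsg.Agent.Characters Cfsg.Agent.BlockCharsA Cfsg.Agent.Blocks.Star
open Cfsg.Agent.BlockCharsA.BrauerPairs Cfsg.Agent.BlockCharsA.PairStab
open Cfsg.Agent.BlockCharsA.PairMax Cfsg.Agent.BlockCharsA.PairLocal
open Cfsg.Agent.BlockCharsA.PairConj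
open Cfsg.Agent.CharTheory.MajorContrib
open scoped ComplexConjugate Matrix

universe u

variable {G : Type u} [Group G] [Finite G] {p : ℕ} {M : Ideal Cfsg.AlgInt}
  {B : Set (Cfsg.IrrCharacter G)} {P : Subgroup G}
  {e : Set (Cfsg.IrrCharacter (Subgroup.centralizer (P : Set G)))}

/-- Conjugate elements have centralizers of equal order. -/
theorem card_CU_conj (u w : G) : Nat.card (CU (w * u * w⁻¹)) = Nat.card (CU u) := by
  refine (Nat.card_congr ((MulAut.conj w).toEquiv.subtypeEquiv fun c => ?_)).symm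
  constructor
  · intro hc
    exact mem_CU_of_commute ((commute_of_mem_CU hc).map (MulAut.conj w).toMonoidHom)
  · intro hc
    refine mem_CU_of_commute ?_
    simpa [mul_assoc] using (commute_of_mem_CU hc).map (MulAut.conj w).symm.toMonoidHom

theorem rank_eq_of_one (hM : Cfsg.IsPModular p M) (hmax : Cfsg.IsMaximalBrauerPair p M B P e)
    {f : Set (Cfsg.IrrCharacter (Subgroup.centralizer (Subgroup.zpowers (1 : G) : Set G)))}
    (hle : Cfsg.SubpairLE p M (Subgroup.zpowers (1 : G)) f P e) :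
    Cfsg.blockRank p f = Cfsg.blockRank p B := by
  have hpair := (block_of_subpairLE hM hle).2 hmax.1
  have htop : (⊤ : Subgroup G) =
      Subgroup.centralizer (Subgroup.zpowers (1 : G) : Set G) :=
    (eq_top_iff.2 fun c _ => mem_CU_of_commute (Commute.one_left c)).symm
  have hone : Subgroup.zpowers (1 : G) ≤
      Subgroup.centralizer (Subgroup.zpowers (1 : G) : Set G) := htop ▸ le_top
  obtain ⟨b, hb, -, hr, -⟩ := NilpotentAbelian.exists_of_pair hM hpair hone htop
  rw [← hr, ← NilpotentAbelian.pullSet_top hM rfl hb, NilpotentAbelian.blockRank_pullSet]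

set_option maxHeartbeats 1000000 in
/-- The norms of the table of a block with cyclic defect group. -/
theorem form_eq_zero_or_ge_cyclic (hM : Cfsg.IsPModular p M)
    (hmax : Cfsg.IsMaximalBrauerPair p M B P e) (hcyc : IsCyclic P)
    (hj : Cfsg.blockDefect p B ≠ 0) {bs : Finset (Cfsg.IrrCharacter G)}
    (hbs : ∀ χ, χ ∈ bs ↔ χ ∈ B) (z : Cfsg.IrrCharacter G → Cfsg.IrrCharacter G → ℤ)
    (hz : ∀ χ ∈ bs, ∀ ψ ∈ bs, Contrib.contrib p B χ ψ = (z χ ψ : ℂ))
    (u : Cfsg.IrrCharacter G → ℤ) :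
    form bs z u u = 0 ∨ (Cfsg.blockRank p B : ℤ) ≤ form bs z u u := by
  classical
  haveI := fact_prime_of_pm hM
  haveI := Fintype.ofFinite G
  haveI := Fintype.ofFinite P
  haveI := Fintype.ofFinite (Cfsg.IrrCharacter G)
  have hp := hM.1
  have hB := hmax.1.2.1
  have hdef := isDefectGroup_of_maximal hM hmax
  have hqj : Nat.card P = p ^ Cfsg.blockDefect p B := card_defectGroup hM hB hdef
  have hab : ∀ a ∈ P, ∀ b ∈ P, a * b = b * a := fun a ha b hb => by
    letI := hcyc.commGroup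
    exact congrArg Subtype.val (mul_comm (⟨a, ha⟩ : P) ⟨b, hb⟩)
  haveI : NeZero (Nat.card P) := ⟨Nat.card_pos.ne'⟩
  -- coordinates on the defect group
  let φ := zmodCyclicMulEquiv hcyc
  let pt : ZMod (Nat.card P) → P := fun i => φ (Multiplicative.ofAdd i)
  let ix : P → ZMod (Nat.card P) := fun v => (φ.symm v).toAdd
  have hpt : ∀ i, ix (pt i) = i := fun i => by simp [ix, pt]
  have hix : ∀ v, pt (ix v) = v := fun v => by simp [ix, pt]
  have hpt0 : pt 0 = 1 := by simp [pt]
  have hne1 : ∀ i, i ≠ 0 → Subgroup.zpowers (pt i : G) ≠ ⊥ := fun i hi h => by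
    rw [Subgroup.zpowers_eq_bot] at h
    exact hi (by rw [← hpt i, show pt i = 1 from Subtype.ext h, ← hpt0, hpt])
  have hpow : ∀ i, pt i = pt 1 ^ (ZMod.val i) := fun i => by
    simp only [pt, ← map_pow, ← ofAdd_nsmul, nsmul_eq_mul, mul_one, ZMod.natCast_zmod_val]
  -- the multipliers
  have hact : ∀ w ∈ stab P e, ∃ a : ZMod (Nat.card P),
      ∀ i, w * (pt i : G) * w⁻¹ = (pt (a * i) : G) := fun w hw => by
    have hm : w * (pt 1 : G) * w⁻¹ ∈ P :=
      (Subgroup.mem_normalizer_iff.1 (stab_le_normalizer hw) _).1 (pt 1).2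
    obtain ⟨a, h1⟩ : ∃ a, (pt a : G) = w * (pt 1 : G) * w⁻¹ :=
      ⟨ix ⟨_, hm⟩, congrArg Subtype.val (hix ⟨_, hm⟩)⟩
    refine ⟨a, fun i => ?_⟩
    rw [hpow i, SubmonoidClass.coe_pow, ← conj_pow, ← h1, ← SubmonoidClass.coe_pow]
    congr 1
    simp only [pt, ← map_pow, ← ofAdd_nsmul, nsmul_eq_mul, mul_one]
    rw [mul_comm, ZMod.natCast_zmod_val]
  let S : Finset (ZMod (Nat.card P)) := Finset.univ.filter fun a =>
    ∃ w ∈ stab P e, ∀ i, w * (pt i : G) * w⁻¹ = (pt (a * i) : G)
  have hSmem : ∀ {a}, a ∈ S ↔ ∃ w ∈ stab P e, ∀ i, w * (pt i : G) * w⁻¹ = (pt (a * i) : G) := by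
    intro a; simp [S]
  have hinj : ∀ {i i' : ZMod (Nat.card P)}, (pt i : G) = (pt i' : G) → i = i' :=
    fun {i i'} h => by rw [← hpt i, Subtype.ext h, hpt]
  have hS : IsFree S := by
    refine ⟨hSmem.2 ⟨1, Subgroup.one_mem _, fun i => by simp⟩, ?_, ?_, ?_⟩
    · intro a b ha hb
      obtain ⟨w, hw, hwa⟩ := hSmem.1 ha
      obtain ⟨w', hw', hwb⟩ := hSmem.1 hb
      refine hSmem.2 ⟨w * w', Subgroup.mul_mem _ hw hw', fun i => ?_⟩
      rw [mul_assoc a b i, ← hwa, ← hwb]
      group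
    · intro a ha
      obtain ⟨w, hw, hwa⟩ := hSmem.1 ha
      obtain ⟨b, hb⟩ := hact w⁻¹ (Subgroup.inv_mem _ hw)
      refine ⟨b, hSmem.2 ⟨w⁻¹, Subgroup.inv_mem _ hw, hb⟩, hinj ?_⟩
      rw [← mul_one a, ← hb, ← hwa 1]
      group
    · intro a i ha hi hai
      obtain ⟨w, hw, hwa⟩ := hSmem.1 ha
      have h1 := hwa i
      rw [hai] at h1
      have h2 : w ∈ Subgroup.centralizer (Subgroup.zpowers (pt i : G) : Set G) :=
        mem_centralizer_zpowers.2 (Subgroup.mem_centralizer_singleton_iff.2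
          (mul_inv_eq_iff_eq_mul.1 h1))
      have h3 := CyclicSubpairs.mem_centralizer_of_fix hM hmax hcyc
        (Subgroup.zpowers_le.2 (pt i).2) (hne1 i hi) hw h2
      have h4 := hwa 1
      rw [show w * (pt 1 : G) * w⁻¹ = pt 1 from mul_inv_eq_iff_eq_mul.2
        (Subgroup.mem_centralizer_iff.1 h3 _ (pt 1).2).symm, mul_one] at h4
      exact (hinj h4).symm
  obtain ⟨R, hR⟩ := exists_reps hS
  have hconj : ∀ {a i}, a ∈ S → ∃ w ∈ stab P e, w * (pt i : G) * w⁻¹ = (pt (a * i) : G) :=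
    fun {a i} ha => by obtain ⟨w, hw, h⟩ := hSmem.1 ha; exact ⟨w, hw, h i⟩
  have horbit : ∀ i, i ≠ 0 →
      Nat.card {v : P // ∃ w ∈ stab P e, w * (pt i : G) * w⁻¹ = (v : G)} = S.card := by
    intro i hi
    rw [← Nat.card_eq_finsetCard S]
    refine (Nat.card_eq_of_bijective (fun a : S =>
      (⟨pt (a * i), hconj a.2⟩ : {v : P // ∃ w ∈ stab P e, w * (pt i : G) * w⁻¹ = (v : G)}))
      ⟨fun a a' h => ?_, ?_⟩).symm
    · exact Subtype.ext (hS.eq_of_mul_eq a.2 a'.2 hi
        (hinj (congrArg (fun v : {v : P // _} => ((v : P) : G)) h)))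
    · rintro ⟨v, w, hw, hwv⟩
      obtain ⟨a, ha⟩ := hact w hw
      exact ⟨⟨a, hSmem.2 ⟨w, hw, ha⟩⟩, Subtype.ext (Subtype.ext ((ha i).symm.trans hwv))⟩
  -- the stable generalized characters
  let η : ZMod (Nat.card P) → P → ℂ := fun t v => eta S t (ix v)
  have hstab : ∀ t, Stable p M e (η t) := fun t =>
    stable_of_invariant hM hmax hab fun a b w hw hwe => by
      obtain ⟨c, hc⟩ := hact w hw
      have h1 : ix b = c * ix a := hinj (by rw [hix, ← hc, hix, hwe])
      simp only [η, h1, eta_mul hS (hSmem.2 ⟨w, hw, hc⟩)]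
  have hgenη : ∀ t, Cfsg.IsGeneralizedCharacter P (η t) := fun t => by
    let L : ZMod (Nat.card P) → (P →* ℂ) := fun c =>
      { toFun := fun v => ZMod.stdAddChar (c * ix v)
        map_one' := by simp [ix]
        map_mul' := fun v v' => by simp [ix, mul_add, AddChar.map_add_eq_mul] }
    have hL : ∀ c, Cfsg.IsGeneralizedCharacter P fun v => L c v := fun c =>
      isGen_of_isCharacter (isCharacter_of_isIrr (isIrrCharacter_monoidHom (L c)))
    have hL1 : Cfsg.IsGeneralizedCharacter P fun _ => (1 : ℂ) :=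
      isGen_of_isCharacter (isCharacter_of_isIrr (isIrrCharacter_monoidHom (1 : P →* ℂ)))
    have h := isGen_sum S (fun a => (fun v => L (a * t) v) - fun _ => (1 : ℂ))
      fun a _ => isGen_sub (hL (a * t)) hL1
    convert h using 1
    funext v
    simp [η, eta, L, Finset.sum_apply]
  have hW : ∀ t, WeightSys p M (wt p M e (η t)) := fun t =>
    weightSys hM hmax (hgenη t) (hstab t)
  obtain ⟨χ₀, hχ₀, h00⟩ := exists_height_zero hM hB
  let f : ZMod (Nat.card P) → G → ℂ := fun t => Blocks.Star.star hM (wt p M e (η t)) (χ₀ : G → ℂ)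
  have hfg : ∀ t, Cfsg.IsGeneralizedCharacter G (f t) := fun t =>
    isGen_star hM (hW t) (irr_isCharacter χ₀)
  have hfint : ∀ t (θ : Cfsg.IrrCharacter G), ∃ v : ℤ,
      Cfsg.classInner (f t) (θ : G → ℂ) = (v : ℂ) := fun t θ => by
    obtain ⟨v, hv⟩ := classInner_gen_int (hfg t) (isGen_of_isCharacter (irr_isCharacter θ))
    exact ⟨v, hv⟩
  choose v hv using hfint
  have hout : ∀ t θ, θ ∉ bs → Cfsg.classInner (f t) (θ : G → ℂ) = 0 := fun t θ hθ =>
    classInner_star_notMem hM hmax (hW t) fun h => hθ ((hbs θ).2 h)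
  -- the weights
  set W : ZMod (Nat.card P) → ℂ := fun i => (Nat.card P : ℂ) *
    pairing p (χ₀ : G → ℂ) (χ₀ : G → ℂ) (pt i : G) (eps p M e (pt i)) /
      (Nat.card (CU (pt i : G)) : ℂ) with hWdef
  have hCU : ∀ {a i}, a ∈ S → Nat.card (CU (pt (a * i) : G)) = Nat.card (CU (pt i : G)) :=
    fun {a i} ha => by obtain ⟨w, -, h⟩ := hconj (i := i) ha; rw [← h, card_CU_conj]
  have hGram : ∀ t t', Cfsg.classInner (f t) (f t') =
      ∑ i ∈ R, eta S t i * conj (eta S t' i) * (W i / (Nat.card P : ℂ)) := by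
    intro t t'
    rw [classInner_star_top hM hmax (hstab t) (hstab t') (irr_isClassFunction χ₀)
      (irr_isClassFunction χ₀),
      Fintype.sum_equiv (φ.symm.toEquiv.trans Multiplicative.toAdd) _
        (fun i => η t (pt i) * conj (η t' (pt i)) *
          (pairing p (χ₀ : G → ℂ) (χ₀ : G → ℂ) (pt i : G) (eps p M e (pt i)) /
            (nb p M e (pt i) : ℂ)))
        (fun x => by
          rw [show pt ((φ.symm.toEquiv.trans Multiplicative.toAdd) x) = x from hix x]),
      ← Finset.sum_subset (Finset.subset_univ (Finset.univ.filter (· ≠ (0 : ZMod (Nat.card P)))))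
        fun i _ hi => by
          obtain rfl : i = 0 := by simpa using hi
          simp [η, hpt, eta_zero],
      ← sum_orbits hS hR]
    refine Finset.sum_congr rfl fun i hi => ?_
    have hi0 := hR.ne_zero i hi
    rw [Finset.sum_congr rfl (g := fun _ => eta S t i * conj (eta S t' i) *
        (pairing p (χ₀ : G → ℂ) (χ₀ : G → ℂ) (pt i : G) (eps p M e (pt i)) /
          ((S.card : ℂ) * (Nat.card (CU (pt i : G)) : ℂ)))) fun a ha => ?_, Finset.sum_const,
      nsmul_eq_mul]
    · have : (S.card : ℂ) ≠ 0 := Nat.cast_ne_zero.2 (Finset.card_ne_zero.2 ⟨1, hS.one_mem⟩)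
      have : (Nat.card P : ℂ) ≠ 0 := natCard_ne_zero
      simp only [W]
      field_simp
    · obtain ⟨w, hw, hwe⟩ := hconj (i := i) ha
      simp only [η, hpt, eta_mul hS ha,
        pairing_eq hM hmax hw hwe (irr_isClassFunction χ₀) (irr_isClassFunction χ₀),
        nb_eq hM hmax hab (pt (a * i)), horbit _ (fun h => hi0 ((hS.mul_eq_zero_iff ha).1 h)),
        hCU ha, Nat.cast_mul]
  -- the local blocks
  choose g hg hgB hge using fun w : P => eps_spec hM hmax w
  have hWunit : ∀ i ∈ R, Cfsg.MemLocalRing M (W i) ∧ ¬ Cfsg.MemLocalIdeal M (W i) := by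
    intro i hi
    obtain ⟨k, hk⟩ := orderOf_top hM hmax (pt i)
    have hcent : (pt i : G) ∈ Subgroup.centralizer (P : Set G) :=
      Subgroup.mem_centralizer_iff.2 fun x hx => hab x hx _ (pt i).2
    have h := weight_unit hM hk ((block_of_subpairLE hM (hg (pt i))).2 hmax.1)
      (blockDefect_of_central hM hmax hcent (hgB _) (hg _))
      (CyclicSubpairs.isNilpotent_local hM hmax hcyc (hne1 i (hR.ne_zero i hi)) (hg _)).2 hχ₀ h00
    rw [← hge, ← hqj] at h
    exact h
  -- the number of columns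
  have hk : bs.card = Cfsg.blockRank p B + R.card := by
    have h := OrbitCount.card_eq_sum_orbit hM hmax hab g hg (insert 1 (R.image pt))
      (fun w => ?_) ?_
    · rw [Finset.sum_insert, rank_eq_of_one hM hmax (hg 1), Finset.sum_congr rfl
          (g := fun _ => 1) fun w hw => ?_, Finset.sum_const, smul_eq_mul, mul_one,
          Finset.card_image_of_injective _ fun i i' h' => by rw [← hpt i, h', hpt]] at h
      · rw [← h, ← Nat.card_eq_finsetCard bs]
        exact Nat.card_congr (Equiv.subtypeEquivRight hbs)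
      · obtain ⟨i, hi, rfl⟩ := Finset.mem_image.1 hw
        exact (CyclicSubpairs.isNilpotent_local hM hmax hcyc (hne1 i (hR.ne_zero i hi)) (hg _)).2
      · intro hm
        obtain ⟨i, hi, he⟩ := Finset.mem_image.1 hm
        exact hR.ne_zero i hi (by rw [← hpt i, he, ← hpt0, hpt])
    · by_cases hw : ix w = 0
      · refine ⟨1, Finset.mem_insert_self _ _, 1, Subgroup.one_mem _, ?_⟩
        rw [show w = 1 by rw [← hix w, hw, hpt0]]; simp
      · obtain ⟨r, hr, a, ha, har⟩ := hR.cover _ hw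
        obtain ⟨x, hx, hxe⟩ := hconj (i := r) ha
        exact ⟨pt r, Finset.mem_insert_of_mem (Finset.mem_image_of_mem _ hr), x, hx,
          by rw [hxe, har, hix]⟩
    · have h1 : ∀ {i : ZMod (Nat.card P)} {x : G}, x * ((1 : P) : G) * x⁻¹ = (pt i : G) → i = 0 :=
        fun {i x} h => hinj (by rw [← h, hpt0]; simp)
      intro r hr r' hr' x hx hxe
      rcases Finset.mem_insert.1 hr with rfl | hr
      · rcases Finset.mem_insert.1 hr' with rfl | hr'
        · rfl
        · obtain ⟨i, -, rfl⟩ := Finset.mem_image.1 hr'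
          rw [h1 hxe, hpt0]
      · obtain ⟨i, hi, rfl⟩ := Finset.mem_image.1 hr
        rcases Finset.mem_insert.1 hr' with rfl | hr'
        · refine absurd (h1 (x := x⁻¹) ?_) (hR.ne_zero i hi)
          rw [← hxe]; group
        · obtain ⟨i', hi', rfl⟩ := Finset.mem_image.1 hr'
          obtain ⟨a, ha⟩ := hact x hx
          rw [hR.sep i hi i' hi' a (hSmem.2 ⟨x, hx, ha⟩) (hinj (by rw [← ha, hxe]))]
  -- the table
  obtain ⟨z', hz', hzs, -, hzne, -, -, -, hzz, hztr⟩ := Contrib.exists_matrix hM hB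
  have hzeq : ∀ χ ∈ bs, ∀ ψ ∈ bs, z χ ψ = z' χ ψ := fun χ hχ ψ hψ => by
    have h := hz χ hχ ψ hψ
    rw [hz' χ ((hbs χ).1 hχ) ψ ((hbs ψ).1 hψ), Int.cast_inj] at h
    exact h.symm
  set q : ℤ := (Nat.card P : ℤ) with hq
  have hq0 : 0 < q := Int.natCast_pos.2 Nat.card_pos
  have hqp : q = (p : ℤ) ^ Cfsg.blockDefect p B := by rw [hq, hqj, Nat.cast_pow]
  set Z : Matrix bs bs ℤ := Matrix.of fun a c => z a c with hZ
  have hfin : ∀ F : Cfsg.IrrCharacter G → ℤ, ∑ᶠ θ ∈ B, F θ = ∑ θ ∈ bs, F θ := fun F => by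
    rw [ZStar.Principal.finsum_mem_eq_sum_filter]
    exact Finset.sum_congr (Finset.ext fun θ => by simp [hbs θ]) fun _ _ => rfl
  have hZsym : Zᵀ = Z := Matrix.ext fun a c => by
    show z c a = z a c
    rw [hzeq _ c.2 _ a.2, hzeq _ a.2 _ c.2, hzs _ ((hbs _).1 a.2) _ ((hbs _).1 c.2)]
  have hZsq : Z * Z = q • Z := Matrix.ext fun a c => by
    have h := hzz a ((hbs _).1 a.2) c ((hbs _).1 c.2)
    rw [hfin] at h
    simp only [Z, Matrix.mul_apply, Matrix.of_apply, Matrix.smul_apply, smul_eq_mul, hqp]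
    rw [hzeq _ a.2 _ c.2, ← h, Finset.sum_coe_sort bs fun θ => z a θ * z θ c]
    exact Finset.sum_congr rfl fun θ hθ => by rw [hzeq _ a.2 _ hθ, hzeq _ hθ _ c.2]
  have hZtr : Z.trace = q * Cfsg.blockRank p B := by
    rw [hfin] at hztr
    simp only [Z, Matrix.trace, Matrix.diag_apply, Matrix.of_apply]
    rw [hqp, ← hztr, Finset.sum_coe_sort bs fun θ => z θ θ]
    exact Finset.sum_congr rfl fun θ hθ => hzeq _ hθ _ hθ
  have hlt : ∀ a : bs, Z a a < q := by
    intro a
    have hrow : ∀ c : bs, c ≠ a → Z a a * Z a a + Z a c * Z a c ≤ q * Z a a := fun c hne => by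
      have h := congrFun (congrFun hZsq a) a
      rw [Matrix.mul_apply, Matrix.smul_apply, smul_eq_mul] at h
      rw [← h, Finset.sum_congr rfl fun x _ => by
        rw [show Z x a = Z a x from congrFun (congrFun hZsym a) x],
        ← Finset.sum_pair (f := fun x => Z a x * Z a x) hne.symm]
      exact Finset.sum_le_sum_of_subset_of_nonneg (Finset.subset_univ _)
        fun x _ _ => mul_self_nonneg _
    have hpos : 0 < Z a a := Contrib.contrib_self_pos hM B (a : Cfsg.IrrCharacter G)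
      (hz _ a.2 _ a.2)
    by_cases ha0 : Cfsg.blockHeight p B ((a : Cfsg.IrrCharacter G) : G → ℂ) = 0
    · have hle : Z a a * Z a a ≤ q * Z a a := by
        have h := congrFun (congrFun hZsq a) a
        rw [Matrix.mul_apply, Matrix.smul_apply, smul_eq_mul] at h
        rw [← h, Finset.sum_congr rfl fun x _ => by
          rw [show Z x a = Z a x from congrFun (congrFun hZsym a) x]]
        exact Finset.single_le_sum (f := fun x => Z a x * Z a x) (fun x _ => mul_self_nonneg _)
          (Finset.mem_univ a)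
      refine lt_of_le_of_ne (le_of_mul_le_mul_right hle hpos) fun h => ?_
      refine ((mod_prime_table hM hB z (fun χ hχ ψ hψ => hz χ ((hbs χ).2 hχ) ψ ((hbs ψ).2 hψ))).2
        a ((hbs _).1 a.2) a ((hbs _).1 a.2)).1 ?_ ⟨ha0, ha0⟩
      rw [show z a a = q from h, hqp]
      exact dvd_pow_self _ hj
    · have hne : (⟨χ₀, (hbs χ₀).2 hχ₀⟩ : bs) ≠ a := fun h => ha0 (by rw [← h]; exact h00)
      have h2 := hrow _ hne
      have h3 : Z a ⟨χ₀, (hbs χ₀).2 hχ₀⟩ ≠ 0 := by
        simp only [Z, Matrix.of_apply]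
        rw [hzeq _ a.2 _ ((hbs χ₀).2 hχ₀), hzs χ₀ hχ₀ a ((hbs _).1 a.2)]
        exact hzne χ₀ hχ₀ a ((hbs _).1 a.2) h00
      have := mul_self_pos.2 h3
      nlinarith
  set Y : Matrix bs bs ℤ := q • (1 : Matrix bs bs ℤ) - Z with hY
  have hYsym : Yᵀ = Y := by rw [hY, Matrix.transpose_sub, Matrix.transpose_smul,
    Matrix.transpose_one, hZsym]
  obtain ⟨Wm, Q, hrep, hQG, ⟨U, hU⟩, hsat⟩ := exists_form_saturated Y q hq0.ne' R.card hYsym
    (by rw [hY]
        simp only [Matrix.sub_mul, Matrix.mul_sub, Matrix.smul_mul, Matrix.mul_smul, Matrix.one_mul,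
          Matrix.mul_one, hZsq, smul_sub]
        abel)
    (by rw [hY, Matrix.trace_sub, Matrix.trace_smul, Matrix.trace_one, hZtr, Fintype.card_coe, hk,
          smul_eq_mul]
        push_cast
        ring)
  have hQs : Qᵀ = Q := by
    rw [hU, Matrix.transpose_mul, Matrix.transpose_mul, Matrix.transpose_transpose,
      ← Matrix.mul_assoc, hYsym]
  -- the radical vectors
  have hrad : ∀ t, ∃ c, Wm *ᵥ c = fun a : bs => v t a := by
    intro t
    refine hsat _ ?_
    have h0 : Z *ᵥ (fun a : bs => v t a) = 0 := by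
      funext a
      apply Int.cast_injective (α := ℂ)
      simp only [Matrix.mulVec, dotProduct, Z, Matrix.of_apply, Pi.zero_apply, Int.cast_zero,
        Int.cast_sum, Int.cast_mul]
      rw [Finset.sum_coe_sort bs fun θ => (z a θ : ℂ) * (v t θ : ℂ),
        Finset.sum_congr rfl fun θ hθ => by rw [← hz a a.2 θ hθ]]
      simp only [Contrib.contrib, regSum_eq_sum, Finset.mul_sum, Finset.sum_mul]
      rw [Finset.sum_comm]
      refine Finset.sum_eq_zero fun x _ => ?_
      split
      swap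
      · simp
      next hx =>
        have hfx : ∑ θ ∈ bs, (v t θ : ℂ) * (θ : G → ℂ) x = 0 := by
          have hfx0 : f t x = 0 := by
            show Blocks.Star.star hM (wt p M e (η t)) (χ₀ : G → ℂ) x = 0
            rw [star_regular hM hmax (hstab t) hχ₀ hx]
            simp [η, ix, eta_zero]
          rw [classFun_eq_sum (isGen_isClassFunction (hfg t)), Finset.sum_apply,
            ← Finset.sum_subset (Finset.subset_univ bs) fun θ _ hθ => by
              rw [Pi.smul_apply, hout t θ hθ, zero_smul]] at hfx0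
          rw [← hfx0]
          exact Finset.sum_congr rfl fun θ _ => by rw [Pi.smul_apply, smul_eq_mul, hv]
        have hc := congrArg conj hfx
        rw [map_sum, map_zero] at hc
        rw [← mul_zero (((p ^ Cfsg.blockDefect p B : ℕ) : ℂ) / (Nat.card G : ℂ) *
          ((a : Cfsg.IrrCharacter G) : G → ℂ) x), ← hc, Finset.mul_sum]
        exact Finset.sum_congr rfl fun θ _ => by rw [map_mul, map_intCast]; ring
    rw [hY, Matrix.sub_mulVec, Matrix.smul_mulVec, Matrix.one_mulVec, h0, sub_zero]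
  choose cv hcv using hrad
  let σ : R ≃ Fin R.card := R.equivFin
  let Cm : Matrix (Fin R.card) (Fin R.card) ℤ := Matrix.of fun i s => cv (σ.symm s) i
  have hVG : ((Cmᵀ * (Wmᵀ * Wm) * Cm).det : ℂ) = (Nat.card P : ℂ) * ∏ i ∈ R, W i := by
    rw [← det_gram hS hR W,
      show ((Cmᵀ * (Wmᵀ * Wm) * Cm).det : ℂ) = Int.castRingHom ℂ (Cmᵀ * (Wmᵀ * Wm) * Cm).det from
        rfl, RingHom.map_det, ← Matrix.det_submatrix_equiv_self σ.symm (Matrix.of fun t t' : R =>
          ∑ i ∈ R, eta S t i * conj (eta S t' i) * (W i / (Nat.card P : ℂ)))]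
    congr 1
    ext s s'
    rw [Matrix.submatrix_apply, Matrix.of_apply, ← hGram,
      classInner_eq_sum (isGen_isClassFunction (hfg _)) bs (v (σ.symm s)) (v (σ.symm s'))
        (fun θ _ => hv _ θ) (hout _) (fun θ _ => hv _ θ)]
    have e1 : ∀ s (a : bs), (Wm * Cm) a s = v (σ.symm s) a := fun s a =>
      congrFun (hcv (σ.symm s)) a
    rw [RingHom.mapMatrix_apply, Matrix.map_apply,
      show Cmᵀ * (Wmᵀ * Wm) * Cm = (Wm * Cm)ᵀ * (Wm * Cm) by
        rw [Matrix.transpose_mul]; simp only [Matrix.mul_assoc],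
      Matrix.mul_apply, map_sum, ← Finset.sum_coe_sort bs]
    refine Finset.sum_congr rfl fun a _ => ?_
    rw [Matrix.transpose_apply, e1, e1, map_mul]
    rfl
  have hdetle : (Wmᵀ * Wm).det ≤ q := by
    set d := (Wmᵀ * Wm).det
    have hd0 : 0 ≤ d := det_gram_nonneg Wm
    have hdvd : d ∣ q ^ R.card := ⟨Q.det, by
      have h1 : (Q * (Wmᵀ * Wm)).det = q ^ R.card := by
        rw [hQG, Matrix.det_smul, Matrix.det_one, mul_one, Fintype.card_fin]
      rw [← h1, Matrix.det_mul, mul_comm]⟩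
    obtain ⟨n, hn⟩ := Int.eq_ofNat_of_zero_le hd0
    have hc : Nat.card P ^ R.card = p ^ (Cfsg.blockDefect p B * R.card) := by
      rw [pow_mul, ← hqj]
    rw [hn, hq, ← Nat.cast_pow, Int.natCast_dvd_natCast, hc] at hdvd
    obtain ⟨a, -, rfl⟩ := (Nat.dvd_prime_pow hp).1 hdvd
    rw [hn, hqp, Nat.cast_pow]
    refine pow_le_pow_right₀ (by exact_mod_cast hp.one_le) ?_
    by_contra hlt'
    push Not at hlt'
    have hprod : Cfsg.MemLocalRing M (∏ i ∈ R, W i) ∧
        ¬ Cfsg.MemLocalIdeal M (∏ i ∈ R, W i) := by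
      refine Finset.prod_induction _ (fun x => Cfsg.MemLocalRing M x ∧ ¬ Cfsg.MemLocalIdeal M x)
        (fun x y hx hy => ⟨ring_mul hM hx.1 hy.1, fun h =>
          ((ideal_mul_iff hM hx.1 hy.1).1 h).elim hx.2 hy.2⟩)
        ⟨ring_one hM, not_ideal_one hM⟩ hWunit
    refine hprod.2 ?_
    have hN : (Cmᵀ * (Wmᵀ * Wm) * Cm).det = q * ((p : ℤ) *
        ((p : ℤ) ^ (a - Cfsg.blockDefect p B - 1) * (Cm.det * Cm.det))) := by
      rw [Matrix.det_mul, Matrix.det_mul, Matrix.det_transpose, show (Wmᵀ * Wm).det = d from rfl,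
        hn, hqp, Nat.cast_pow,
        show (p : ℤ) ^ a = (p : ℤ) ^ Cfsg.blockDefect p B * ((p : ℤ) *
          (p : ℤ) ^ (a - Cfsg.blockDefect p B - 1)) by rw [← pow_succ', ← pow_add]; congr 1; omega]
      ring
    rw [hN, Int.cast_mul, hq, Int.cast_natCast] at hVG
    rw [← mul_left_cancel₀ natCard_ne_zero hVG, Int.cast_mul, Int.cast_natCast]
    exact ideal_mul_right hM (ideal_p hM) (ring_of_isIntegral hM isIntegral_algebraMap)
  have hfin' : form bs z u u = (fun a : bs => u a) ⬝ᵥ (Z *ᵥ fun a : bs => u a) := by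
    simp only [form, Matrix.mulVec, dotProduct, Z, Matrix.of_apply, Finset.mul_sum]
    rw [← Finset.sum_coe_sort bs]
    refine Finset.sum_congr rfl fun a _ => ?_
    rw [← Finset.sum_coe_sort bs]
    exact Finset.sum_congr rfl fun c _ => by ring
  rw [hfin']
  exact norm_eq_zero_or_ge_of_det Z hq0 (r := R.card) (by rw [Fintype.card_coe, hk, add_comm]) hlt
    Wm Q hQs hrep hQG hdetle _

end Cfsg.Agent.CharTheory.CyclicCofactor
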