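import Mathlib

/-!
# Generators of a finite abelian `p`-group next to an element of largest order
-/

namespace Cfsg.Agent.CharTheory.CyclicCofactor

variable {A : Type*} [CommGroup A] [Finite A]

/-- An abelian group has at most `e ^ n` elements, `e` an exponent, `n` generators. -/
theorem card_le_pow_of_generators {n e : ℕ} (he : 0 < e) (f : Fin n → A)
    (hgen : Subgroup.closure (Set.range f) = ⊤) (hexp : ∀ a : A, a ^ e = 1) :
    Nat.card A ≤ e ^ n := by
  have hsurj : Function.Surjective (fun g : Fin n → Fin e => ∏ i, f i ^ (g i : ℕ)) := by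
    intro x
    obtain ⟨a, rfl⟩ :=
      Subgroup.mem_closure_range_iff_of_fintype.1 (hgen.ge (Subgroup.mem_top x))
    have hlt : ∀ i, (a i % (e : ℤ)).toNat < e := fun i => by
      have := Int.emod_nonneg (a i) (show (e : ℤ) ≠ 0 by omega)
      have := Int.emod_lt_of_pos (a i) (show (0 : ℤ) < e by omega)
      omega
    refine ⟨fun i => ⟨_, hlt i⟩, Finset.prod_congr rfl fun i _ => ?_⟩
    rw [← zpow_natCast, Int.toNat_of_nonneg (Int.emod_nonneg _ (by omega)), Int.emod_def,
      zpow_sub, zpow_mul, zpow_natCast, hexp, one_zpow, inv_one, mul_one]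
  refine (Nat.card_le_card_of_surjective _ hsurj).trans (le_of_eq ?_)
  rw [Nat.card_fun, Nat.card_eq_fintype_card, Nat.card_eq_fintype_card, Fintype.card_fin,
    Fintype.card_fin]

/-- An element of largest order replaces one of the generators. -/
theorem exists_fewer {p : ℕ} (hp : p.Prime) (hA : IsPGroup p A) {n : ℕ} (f : Fin (n + 1) → A)
    (hgen : Subgroup.closure (Set.range f) = ⊤) {y : A}
    (hmax : ∀ a : A, orderOf a ∣ orderOf y) (hy : y ≠ 1) :
    ∃ g : Fin n → A, Subgroup.closure (insert y (Set.range g)) = ⊤ := by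
  haveI := Fact.mk hp
  obtain ⟨a, ha⟩ := Subgroup.mem_closure_range_iff_of_fintype.1 (hgen.ge (Subgroup.mem_top y))
  by_cases hall : ∀ i, (p : ℤ) ∣ a i
  · exfalso
    choose c hc using hall
    have hw : y = (∏ i, f i ^ c i) ^ p := by
      rw [ha, ← Finset.prod_pow]
      exact Finset.prod_congr rfl fun i _ => by
        rw [← zpow_natCast, ← zpow_mul, mul_comm (c i), ← hc i]
    obtain ⟨j, hj⟩ := IsPGroup.iff_orderOf.1 hA (∏ i, f i ^ c i)
    have hj0 : j ≠ 0 := fun h => hy (by
      rw [h, pow_zero, orderOf_eq_one_iff] at hj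
      rw [hw, hj, one_pow])
    have h1 := hmax (∏ i, f i ^ c i)
    obtain ⟨j', rfl⟩ := Nat.exists_eq_succ_of_ne_zero hj0
    rw [hw, orderOf_pow' _ hp.ne_zero, hj, Nat.gcd_eq_right (dvd_pow_self p hj0), pow_succ,
      Nat.mul_div_cancel _ hp.pos, ← pow_succ] at h1
    exact absurd ((Nat.pow_dvd_pow_iff_le_right hp.one_lt).1 h1) (by omega)
  push Not at hall
  obtain ⟨i, hi⟩ := hall
  refine ⟨f ∘ i.succAbove, ?_⟩
  set H := Subgroup.closure (insert y (Set.range (f ∘ i.succAbove)))
  have hy' : y ∈ H := Subgroup.subset_closure (Set.mem_insert _ _)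
  have hrest : ∀ l, f (i.succAbove l) ∈ H := fun l =>
    Subgroup.subset_closure (Set.mem_insert_of_mem _ ⟨l, rfl⟩)
  have hpow : f i ^ a i ∈ H := by
    rw [Fin.prod_univ_succAbove _ i] at ha
    rw [eq_mul_inv_of_mul_eq ha.symm]
    exact H.mul_mem hy' (H.inv_mem (H.prod_mem fun l _ => H.zpow_mem (hrest l) _))
  have hfi : f i ∈ H := by
    obtain ⟨j, hj⟩ := IsPGroup.iff_orderOf.1 hA (f i)
    obtain ⟨u, w, huw⟩ :=
      (((Nat.prime_iff_prime_int.1 hp).coprime_iff_not_dvd.2 hi).symm.pow_right (n := j))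
    have e : (u * a i + w * (p : ℤ) ^ j) = 1 := huw
    rw [← zpow_one (f i), ← e, zpow_add, mul_comm u, zpow_mul, mul_comm w, zpow_mul,
      show f i ^ ((p : ℤ) ^ j) = 1 by
        rw [← Nat.cast_pow, zpow_natCast, ← hj, pow_orderOf_eq_one],
      one_zpow, mul_one]
    exact H.zpow_mem hpow u
  refine eq_top_iff.2 (hgen ▸ (Subgroup.closure_le H).2 ?_)
  rintro _ ⟨l, rfl⟩
  rcases Fin.eq_self_or_eq_succAbove i l with rfl | ⟨l', rfl⟩
  · exact hfi
  · exact hrest l'

end Cfsg.Agent.CharTheory.CyclicCofactor
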