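import Mathlib
import Cfsg.Agent.Lib.CharTheory.CyclicCofactor.CyclicTable
import Cfsg.Agent.Lib.CharTheory.CyclicCofactor.QuotientTable
import Cfsg.Agent.Lib.CharTheory.CyclicCofactor.Generators
import Cfsg.Agent.Lib.CharTheory.MajorContrib.SmallCofactor

/-!
# Blocks with an abelian defect group on two or three generators
-/

set_option linter.style.haveILetI false
set_option linter.unusedSectionVars false

namespace Cfsg.Agent.CharTheory.CyclicCofactor

open Cfsg.Agent.Blocks Cfsg.Agent.Characters Cfsg.Agent.BlockCharsA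
open Cfsg.Agent.BlockCharsA.Subsection
open Cfsg.Agent.CharTheory.MajorContrib

universe u

variable {G : Type u} [Group G] [Finite G] {p : ℕ} {M : Ideal Cfsg.AlgInt}

theorem own_le_center (y : G) :
    Subgroup.zpowers (own y) ≤ Subgroup.center (Subgroup.centralizer ({y} : Set G)) :=
  Subgroup.zpowers_le.2 (Subgroup.mem_center_iff.2 fun c => (self_commute y c).eq.symm)

instance normal_own (y : G) : (Subgroup.zpowers (own y)).Normal :=
  ⟨fun a ha c => by
    rw [(Subgroup.mem_center_iff.1 (own_le_center y ha) c), mul_inv_cancel_right]; exact ha⟩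

/-- A major subsection at an element of largest order, and the block below it. -/
theorem exists_reduction (hM : Cfsg.IsPModular p M) {B : Set (Cfsg.IrrCharacter G)}
    (hB : Cfsg.IsPBlock M B) {D : Subgroup G} (hD : Cfsg.IsDefectGroup p M B D)
    (hab : IsMulCommutative D) (hd : Cfsg.blockDefect p B ≠ 0) {n : ℕ} (f : Fin (n + 1) → D)
    (hgen : Subgroup.closure (Set.range f) = ⊤) :
    ∃ (y : G) (k : ℕ) (b : Set (Cfsg.IrrCharacter (Subgroup.centralizer ({y} : Set G))))
      (Bbar : Set (Cfsg.IrrCharacter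
        (Subgroup.centralizer ({y} : Set G) ⧸ Subgroup.zpowers (own y))))
      (Dbar : Subgroup (Subgroup.centralizer ({y} : Set G) ⧸ Subgroup.zpowers (own y)))
      (g : Fin n → Dbar),
      orderOf y = p ^ k ∧ Cfsg.blockDefect p B ≤ k * (n + 1) ∧
      Cfsg.IsInducedBlock M (Subgroup.centralizer ({y} : Set G)) b B ∧
      Cfsg.blockDefect p b = Cfsg.blockDefect p B ∧
      Cfsg.IsPBlock M Bbar ∧ (∀ χ ∈ Bbar, inflIrr χ ∈ b) ∧
      k + Cfsg.blockDefect p Bbar = Cfsg.blockDefect p B ∧
      Cfsg.IsDefectGroup p M Bbar Dbar ∧ IsMulCommutative Dbar ∧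
      Subgroup.closure (Set.range g) = ⊤ := by
  classical
  haveI := fact_prime_of_pm hM
  have hp := hM.1
  letI : CommGroup D := { (inferInstance : Group D) with mul_comm := fun a b => hab.is_comm.comm a b }
  have hDp := isPGroup_defect hD
  obtain ⟨y₀, hy₀⟩ := Monoid.exists_orderOf_eq_exponent (Monoid.ExponentExists.of_finite (G := D))
  obtain ⟨k, hk⟩ := IsPGroup.iff_orderOf.1 hDp y₀
  have hexp : ∀ a : D, a ^ p ^ k = 1 := fun a => by
    rw [← hk, hy₀, Monoid.pow_exponent_eq_one]
  have hcard := card_le_pow_of_generators (pow_pos hp.pos k) f hgen hexp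
  rw [card_defectGroup hM hB hD, ← pow_mul] at hcard
  have hdk := (Nat.pow_le_pow_iff_right hp.one_lt).1 hcard
  have hk0 : k ≠ 0 := fun h => hd (by rw [h, Nat.zero_mul] at hdk; omega)
  set y : G := (y₀ : G) with hy
  have hord : orderOf y = p ^ k := by rw [hy, Subgroup.orderOf_coe, hk]
  set C := Subgroup.centralizer ({y} : Set G)
  set N := Subgroup.zpowers (own y)
  obtain ⟨b, hind, hdef⟩ := exists_major hM hB hD (y := y) y₀.2 fun t ht =>
    congrArg Subtype.val (hab.is_comm.comm ⟨t, ht⟩ y₀)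
  obtain ⟨E, hE⟩ := exists_defectGroup hM hind.1
  obtain ⟨F, hF, hEF⟩ := exists_defect_le_of_induced hM hind hE
  have hEeq : E.map C.subtype = F := Subgroup.eq_of_le_of_card_ge hEF (by
    rw [Subgroup.card_map_of_injective C.subtype_injective, card_defectGroup hM hind.1 hE,
      card_defectGroup hM hB hF, hdef])
  obtain ⟨x, hx⟩ := exists_defectGroup_conj_eq hM hB hD hF
  let τ : D ≃* E := (D.equivMapOfInjective _ (MulAut.conj x).injective).trans
    ((MulEquiv.subgroupCongr (hx.symm.trans hEeq.symm)).trans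
      (E.equivMapOfInjective _ C.subtype_injective).symm)
  have hNp : IsPGroup p N := IsPGroup.of_card (n := k) (by
    rw [Nat.card_zpowers, ← Subgroup.orderOf_coe]; exact hord)
  have hyE : own y ∈ E := normal_le_defect hM hNp hind.1 hE (Subgroup.mem_zpowers _)
  have hyk : orderOf (τ.symm ⟨own y, hyE⟩) = p ^ k := by
    rw [MulEquiv.orderOf_eq, Subgroup.orderOf_mk, ← Subgroup.orderOf_coe]; exact hord
  obtain ⟨g₀, hg₀⟩ := exists_fewer hp hDp f hgen (y := τ.symm ⟨own y, hyE⟩)
    (fun a => hyk ▸ orderOf_dvd_iff_pow_eq_one.2 (hexp a)) fun h => by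
      rw [h, orderOf_one] at hyk
      exact (Nat.one_lt_pow hk0 hp.one_lt).ne hyk
  obtain ⟨Bbar, hBbar, hsub, hdefbar⟩ := exists_block_quotient hM hNp hind.1
  set Dbar := E.map (QuotientGroup.mk' N)
  have hDbar : Cfsg.IsDefectGroup p M Bbar Dbar := (hdefbar _).2 ⟨E, hE, rfl⟩
  set π : D →* Dbar := ((QuotientGroup.mk' N).subgroupMap E).comp τ.toMonoidHom
  have hπ : Function.Surjective π :=
    ((QuotientGroup.mk' N).subgroupMap_surjective E).comp τ.surjective
  refine ⟨y, k, b, Bbar, Dbar, π ∘ g₀, hord, hdk, hind, hdef, hBbar, fun χ hχ => hsub χ hχ, ?_,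
    hDbar, ⟨⟨fun a c => by
      obtain ⟨a, rfl⟩ := hπ a
      obtain ⟨c, rfl⟩ := hπ c
      rw [← map_mul, mul_comm, map_mul]⟩⟩, ?_⟩
  · have hNE : N ≤ E := normal_le_defect hM hNp hind.1 hE
    have h1 := (E.map (QuotientGroup.mk' N)).card_mul_index
    rw [Subgroup.index_map_eq E (QuotientGroup.mk'_surjective N)
      (by rw [QuotientGroup.ker_mk']; exact hNE)] at h1
    have h3 : Nat.card (C ⧸ N) * Nat.card N = Nat.card C :=
      (Subgroup.card_eq_card_quotient_mul_card_subgroup N).symm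
    have h2 : Nat.card (E.map (QuotientGroup.mk' N)) * Nat.card N = Nat.card E := by
      refine Nat.eq_of_mul_eq_mul_right (Nat.pos_of_ne_zero E.index_ne_zero_of_finite) ?_
      rw [E.card_mul_index, mul_right_comm, h1, h3]
    rw [card_defectGroup hM hBbar hDbar, card_defectGroup hM hind.1 hE, hdef, Nat.card_zpowers,
      ← Subgroup.orderOf_coe, show ((own y : C) : G) = y from rfl, hord, ← pow_add] at h2
    rw [add_comm]
    exact Nat.pow_right_injective hp.two_le h2
  · have h := congrArg (Subgroup.map π) hg₀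
    rw [MonoidHom.map_closure, Subgroup.map_top_of_surjective π hπ, Set.image_insert_eq,
      ← Set.range_comp] at h
    have h1 : π (τ.symm ⟨own y, hyE⟩) = 1 := Subtype.ext (by
      show ((τ (τ.symm ⟨own y, hyE⟩) : E) : C ⧸ N) = 1
      rw [MulEquiv.apply_symm_apply]
      exact (QuotientGroup.eq_one_iff _).2 (Subgroup.mem_zpowers _))
    rwa [h1, Subgroup.closure_insert_one] at h

/-- The block rank is at most the number of characters. -/
theorem blockRank_le_card (B : Set (Cfsg.IrrCharacter G)) :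
    Cfsg.blockRank p B ≤ Nat.card B := by
  classical
  haveI := Fintype.ofFinite (Cfsg.IrrCharacter G)
  refine (finrank_span_le_card _).trans ?_
  rw [Set.toFinset_image, Nat.card_eq_fintype_card, ← Set.toFinset_card]
  exact Finset.card_image_le

/-- An abelian defect group on two generators. -/
theorem card_le_of_two_gen (hM : Cfsg.IsPModular p M) {B : Set (Cfsg.IrrCharacter G)}
    (hB : Cfsg.IsPBlock M B) {D : Subgroup G} (hD : Cfsg.IsDefectGroup p M B D)
    (hab : IsMulCommutative D) (f : Fin 2 → D) (hgen : Subgroup.closure (Set.range f) = ⊤) :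
    Nat.card B ≤ p ^ Cfsg.blockDefect p B := by
  classical
  haveI := fact_prime_of_pm hM
  have hp := hM.1
  rcases Nat.eq_zero_or_pos (Cfsg.blockDefect p B) with h0 | h0
  · obtain ⟨b, hind, hdef⟩ := exists_major hM hB hD D.one_mem fun t _ => by simp
    exact card_le_of_cofactor hM (k := 0) (by simp) hind hdef (by omega)
  obtain ⟨y, k, b, Bbar, Dbar, g, hk, -, hind, hdef, hBbar, hsub, hkd, hDbar, -, hg⟩ :=
    exists_reduction hM hB hD hab h0.ne' f hgen
  by_cases hsmall : Cfsg.blockDefect p B ≤ k + 1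
  · exact card_le_of_cofactor hM hk hind hdef hsmall
  push Not at hsmall
  haveI := Fintype.ofFinite (Cfsg.IrrCharacter G)
  haveI := Fintype.ofFinite
    (Cfsg.IrrCharacter (Subgroup.centralizer ({y} : Set G) ⧸ Subgroup.zpowers (own y)))
  have hn := pow_pos hp.pos k
  have hζ := Complex.isPrimitiveRoot_exp (p ^ k) hn.ne'
  obtain ⟨bs, n, e, z, htab, hbs, hz⟩ := exists_table hM hk hζ hind hdef
  set d := Cfsg.blockDefect p B
  set l := Cfsg.blockRank p b
  set T := primitiveRoots (p ^ k) ℂ with hT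
  set Bs := Finset.univ.filter (· ∈ B) with hBs
  have hTpos : (0 : ℝ) < (T.card : ℝ) :=
    Nat.cast_pos.2 (Finset.card_pos.2 ⟨_, (mem_primitiveRoots hn).2 hζ⟩)
  -- the norms
  obtain ⟨P, hP⟩ := PairCorr.exists_maximal_on hM hBbar hDbar
  have hcyc : IsCyclic Dbar := by
    refine ⟨g 0, fun x => ?_⟩
    have hx := hg.ge (Subgroup.mem_top x)
    rwa [show Set.range g = {g 0} from Set.range_unique, ← Subgroup.zpowers_eq_closure] at hx
  obtain ⟨z', hz', -⟩ := Contrib.exists_matrix hM hBbar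
  set bs' := Finset.univ.filter (· ∈ Bbar)
  have hbs' : ∀ θ, θ ∈ bs' ↔ θ ∈ Bbar := fun θ => by simp [bs']
  have hzb : ∀ θ ∈ bs', ∀ θ' ∈ bs', Contrib.contrib p Bbar θ θ' = (z' θ θ' : ℂ) :=
    fun θ hθ θ' hθ' => hz' θ ((hbs' θ).1 hθ) θ' ((hbs' θ').1 hθ')
  have hNp : IsPGroup p (Subgroup.zpowers (own y)) := IsPGroup.of_card (n := k) (by
    rw [Nat.card_zpowers, ← Subgroup.orderOf_coe]; exact hk)
  have hcard : p ^ Cfsg.blockDefect p b =
      Nat.card (Subgroup.zpowers (own y)) * p ^ Cfsg.blockDefect p Bbar := by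
    rw [hdef, ← hkd, pow_add, Nat.card_zpowers, ← Subgroup.orderOf_coe]
    exact congrArg (· * _) hk.symm
  have hmin : ∀ u, form bs z u u = 0 ∨ (l : ℤ) ≤ form bs z u u :=
    form_bound hM hNp (own_le_center y) hind.1 hBbar hsub hcard hbs z hz hbs' z' hzb
      (form_eq_zero_or_ge_cyclic hM hP hcyc (by omega) hbs' z' hzb)
  rw [show Nat.card B = Bs.card from by rw [Nat.card_eq_fintype_card, Fintype.card_subtype]]
  have hone : ∀ χ ∈ Bs, (T.card : ℝ) ≤ diagSum k bs n e z p χ := fun χ hχ => by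
    refine le_trans ?_ (pow_height_mul_card_le_diagSum hM hB hζ htab (Finset.mem_filter.1 hχ).2)
    exact le_mul_of_one_le_left hTpos.le (one_le_pow₀ (Nat.one_le_cast.2 hp.one_le))
  have h1 : ∀ χ ∈ Bs, (l : ℝ) * T.card ≤ diagSum k bs n e z p χ := fun χ hχ =>
    card_mul_le_sum_re bs z n e htab.sym hp hζ l hmin χ (hTpos.trans_le (hone χ hχ))
  have h2 := Finset.card_nsmul_le_sum Bs _ _ h1
  rw [sum_diagSum hM hB hζ htab, nsmul_eq_mul, ← hT] at h2
  have hl : 0 < l := NilpotentAbelian.blockRank_pos hM hind.1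
  have h4 : (Bs.card : ℝ) * l ≤ ((p : ℝ) ^ d) * l := le_of_mul_le_mul_right (by linarith) hTpos
  have h5 : (Bs.card : ℝ) ≤ ((p ^ d : ℕ) : ℝ) := by
    push_cast
    exact le_of_mul_le_mul_right h4 (Nat.cast_pos.2 hl)
  exact_mod_cast h5

/-- An abelian defect group on three generators. -/
theorem card_cube_le_of_three_gen (hM : Cfsg.IsPModular p M) {B : Set (Cfsg.IrrCharacter G)}
    (hB : Cfsg.IsPBlock M B) {D : Subgroup G} (hD : Cfsg.IsDefectGroup p M B D)
    (hab : IsMulCommutative D) (f : Fin 3 → D) (hgen : Subgroup.closure (Set.range f) = ⊤) :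
    Nat.card B ^ 3 ≤ p ^ (5 * Cfsg.blockDefect p B) := by
  classical
  haveI := fact_prime_of_pm hM
  have hp := hM.1
  rcases Nat.eq_zero_or_pos (Cfsg.blockDefect p B) with h0 | h0
  · obtain ⟨b, hind, hdef⟩ := exists_major hM hB hD D.one_mem fun t _ => by simp
    have h := card_le_of_cofactor hM (k := 0) (by simp) hind hdef (by omega)
    refine (Nat.pow_le_pow_left h 3).trans ?_
    rw [← pow_mul]
    exact Nat.pow_le_pow_right hp.pos (by omega)
  obtain ⟨y, k, b, Bbar, Dbar, g, hk, hdk, hind, hdef, hBbar, hsub, hkd, hDbar, hDab, hg⟩ :=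
    exists_reduction hM hB hD hab h0.ne' f hgen
  haveI := Fintype.ofFinite (Cfsg.IrrCharacter G)
  have hNp : IsPGroup p (Subgroup.zpowers (own y)) := IsPGroup.of_card (n := k) (by
    rw [Nat.card_zpowers, ← Subgroup.orderOf_coe]; exact hk)
  have hbar := card_le_of_two_gen hM hBbar hDbar hDab g hg
  have hl : Cfsg.blockRank p b ≤ p ^ Cfsg.blockDefect p Bbar :=
    ((blockRank_le hM hNp (own_le_center y) hind.1 hBbar hsub).trans (blockRank_le_card Bbar)).trans
      hbar
  have hn := pow_pos hp.pos k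
  have hζ := Complex.isPrimitiveRoot_exp (p ^ k) hn.ne'
  obtain ⟨bs, n, e, z, htab, hbs, hz⟩ := exists_table hM hk hζ hind hdef
  set d := Cfsg.blockDefect p B
  set T := primitiveRoots (p ^ k) ℂ with hT
  set Bs := Finset.univ.filter (· ∈ B) with hBs
  have hTpos : (0 : ℝ) < (T.card : ℝ) :=
    Nat.cast_pos.2 (Finset.card_pos.2 ⟨_, (mem_primitiveRoots hn).2 hζ⟩)
  have hone : ∀ χ ∈ Bs, (T.card : ℝ) ≤ diagSum k bs n e z p χ := fun χ hχ => by
    refine le_trans ?_ (pow_height_mul_card_le_diagSum hM hB hζ htab (Finset.mem_filter.1 hχ).2)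
    exact le_mul_of_one_le_left hTpos.le (one_le_pow₀ (Nat.one_le_cast.2 hp.one_le))
  have h3 := Finset.card_nsmul_le_sum Bs _ _ hone
  rw [sum_diagSum hM hB hζ htab, nsmul_eq_mul, ← hT] at h3
  have h4 : Bs.card ≤ p ^ d * Cfsg.blockRank p b := by
    have : (Bs.card : ℝ) ≤ (p : ℝ) ^ d * (Cfsg.blockRank p b : ℕ) :=
      le_of_mul_le_mul_right (by linarith) hTpos
    exact_mod_cast this
  rw [show Nat.card B = Bs.card from by rw [Nat.card_eq_fintype_card, Fintype.card_subtype]]
  refine (Nat.pow_le_pow_left (h4.trans (Nat.mul_le_mul_left _ hl)) 3).trans ?_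
  rw [← pow_add, ← pow_mul]
  exact Nat.pow_le_pow_right hp.pos (by omega)

end Cfsg.Agent.CharTheory.CyclicCofactor
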